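import Cfsg.Prelude.Def_DegreeGraph
import Cfsg.Agent.S0188
import Cfsg.Agent.Lib.Clifford.Ito
import Cfsg.Agent.Lib.Clifford.Linear
import Cfsg.Agent.Lib.Clifford.Rep
import Cfsg.Agent.Lib.Classif.FirstPowerData
import Cfsg.Agent.Lib.SmallGroups.Sylow

/-!
Character degrees of groups with few composition factors.
-/

set_option autoImplicit false
set_option linter.style.haveILetI false
set_option linter.unusedSectionVars false

namespace Cfsg.Agent.Lib.SmallSimple.Degrees

open Cfsg.Agent.Lib.Characters Cfsg.Agent.Lib.Characters.Basic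
open Cfsg.Agent.Lib.Classif.PrimeExceptional (deg apply_one_eq natAbs_deg)
open scoped ComplexConjugate

universe u v

variable {G : Type u} [Group G] [Finite G]

theorem mem_iff {d : ℕ} : d ∈ Cfsg.charDegrees G ↔ ∃ χ : Cfsg.IrrCharacter G, (χ : G → ℂ) 1 = d := by
  refine exists_congr fun χ => ?_
  obtain ⟨n, -, hn⟩ := exists_degree_pos χ
  have hd : Cfsg.charDegree (χ : G → ℂ) = n := by
    rw [Cfsg.charDegree, hn, Complex.natCast_re, Nat.floor_natCast]
  rw [hd, hn]
  exact ⟨fun h => by rw [h], fun h => by exact_mod_cast h⟩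

theorem mem_of_surjective {H : Type v} [Group H] [Finite H] (f : G →* H)
    (hf : Function.Surjective f) {d : ℕ} (h : d ∈ Cfsg.charDegrees H) : d ∈ Cfsg.charDegrees G := by
  rw [mem_iff] at h ⊢
  obtain ⟨χ, hχ⟩ := h
  exact ⟨⟨_, isIrrCharacter_comp f hf χ.2⟩, by simpa using hχ⟩

theorem dvd_card {d : ℕ} (h : d ∈ Cfsg.charDegrees G) : d ∣ Nat.card G := by
  obtain ⟨χ, rfl⟩ := h
  exact H80.ClassMult.charDegree_dvd_card χ

/-- Ito's theorem. -/
theorem dvd_index {A : Subgroup G} [A.Normal] (hA : ∀ a ∈ A, ∀ b ∈ A, a * b = b * a) {d : ℕ}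
    (h : d ∈ Cfsg.charDegrees G) : d ∣ A.index := by
  obtain ⟨χ, hχ⟩ := mem_iff.mp h
  obtain ⟨d', hd', hdvd⟩ := Clifford.Ito.degree_dvd_index A hA χ
  rw [hχ] at hd'
  rwa [show d = d' by exact_mod_cast hd']

/-- A prime dividing a degree has no abelian normal Sylow subgroup. -/
theorem not_degreePrime {A : Subgroup G} [A.Normal] (hA : ∀ a ∈ A, ∀ b ∈ A, a * b = b * a) {p : ℕ}
    (hp : ¬ p ∣ A.index) : p ∉ Cfsg.degreePrimes G := by
  rintro ⟨-, d, hd, hpd⟩
  exact hp (hpd.trans (dvd_index hA hd))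

/-- The square of a degree is at most the index of the centre. -/
theorem sq_le_center_index {d : ℕ} (h : d ∈ Cfsg.charDegrees G) :
    d ^ 2 ≤ (Subgroup.center G).index := by
  classical
  haveI := Fintype.ofFinite G
  obtain ⟨χ, hχ⟩ := mem_iff.mp h
  obtain ⟨n, ρ, hρ, hc⟩ := exists_rep χ
  haveI := hρ
  have hone := classInner_self_irr χ
  rw [Cfsg.classInner, inv_mul_eq_one₀ (Nat.cast_ne_zero.mpr Nat.card_pos.ne')] at hone
  have hval : ∀ z ∈ Subgroup.center G,
      (χ : G → ℂ) z * conj ((χ : G → ℂ) z) = (d : ℂ) ^ 2 := by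
    intro z hz
    obtain ⟨c, hcz⟩ := Clifford.Rep.schur ρ (ρ z) fun g => by
      rw [← map_mul, ← map_mul, Subgroup.mem_center_iff.mp hz g]
    obtain ⟨c', hcz'⟩ := Clifford.Rep.schur ρ (ρ z⁻¹) fun g => by
      rw [← map_mul, ← map_mul, Subgroup.mem_center_iff.mp (inv_mem hz) g]
    have h1 : (χ : G → ℂ) z = c * d := by
      rw [← hc, Representation.character, hcz, map_smul, smul_eq_mul, LinearMap.trace_one,
        ← hχ, ← hc, Representation.char_one]
    have h2 : (χ : G → ℂ) z⁻¹ = c' * d := by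
      rw [← hc, Representation.character, hcz', map_smul, smul_eq_mul, LinearMap.trace_one,
        ← hχ, ← hc, Representation.char_one]
    rw [← apply_inv (isCharacter_irr χ), h1, h2]
    have hprod : (c * c') • (1 : Module.End ℂ (Fin n → ℂ)) = 1 := by
      calc (c * c') • (1 : Module.End ℂ (Fin n → ℂ)) = (c • 1) * (c' • 1) := by
            rw [smul_mul_smul_comm, one_mul]
        _ = 1 := by rw [← hcz, ← hcz', ← map_mul, mul_inv_cancel, map_one]
    have := congrArg (LinearMap.trace ℂ (Fin n → ℂ)) hprod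
    rw [map_smul, smul_eq_mul, LinearMap.trace_one] at this
    have hn : (Module.finrank ℂ (Fin n → ℂ) : ℂ) = d := by
      rw [← hχ, ← hc, Representation.char_one]
    rw [hn] at this
    linear_combination (d : ℂ) * this
  have hre : ((Nat.card G : ℂ)).re =
      ∑ g : G, ((χ : G → ℂ) g * conj ((χ : G → ℂ) g)).re := by
    rw [hone, Complex.re_sum]
  rw [Complex.natCast_re] at hre
  have hle : (Nat.card (Subgroup.center G) : ℝ) * (d : ℝ) ^ 2 ≤ (Nat.card G : ℝ) := by
    rw [hre]
    calc (Nat.card (Subgroup.center G) : ℝ) * (d : ℝ) ^ 2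
        = ∑ g ∈ Finset.univ.filter (· ∈ Subgroup.center G),
            ((χ : G → ℂ) g * conj ((χ : G → ℂ) g)).re := by
          rw [Finset.sum_congr rfl (g := fun _ => (d : ℝ) ^ 2) fun g hg => by
              rw [hval g (Finset.mem_filter.mp hg).2, ← Nat.cast_pow, Complex.natCast_re,
                Nat.cast_pow],
            Finset.sum_const, nsmul_eq_mul, ← Fintype.card_subtype, Nat.card_eq_fintype_card]
      _ ≤ _ := Finset.sum_le_sum_of_subset_of_nonneg (Finset.subset_univ _) fun g _ _ => by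
          rw [Complex.mul_conj]
          simpa using Complex.normSq_nonneg _
  have hle' : Nat.card (Subgroup.center G) * d ^ 2 ≤ Nat.card G := by exact_mod_cast hle
  rw [← (Subgroup.center G).card_mul_index] at hle'
  exact Nat.le_of_mul_le_mul_left hle' Nat.card_pos

/-- The degrees of an internal direct product. -/
theorem mul_mem_of_direct (K C : Subgroup G) [K.Normal] [C.Normal] (hKC : K ⊓ C = ⊥)
    (hcard : Nat.card K * Nat.card C = Nat.card G) {a b : ℕ} (ha : a ∈ Cfsg.charDegrees K)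
    (hb : b ∈ Cfsg.charDegrees C) : a * b ∈ Cfsg.charDegrees G := by
  have hcomm : ∀ (k : K) (c : C), Commute (k : G) (c : G) := fun k c =>
    Subgroup.commute_of_normal_of_disjoint K C inferInstance inferInstance
      (disjoint_iff.mpr hKC) k c k.2 c.2
  let f : K × C →* G := MonoidHom.mk' (fun x => (x.1 : G) * x.2) fun x y => by
    show ((x.1 * y.1 : K) : G) * ((x.2 * y.2 : C) : G) = _
    rw [Subgroup.coe_mul, Subgroup.coe_mul]
    calc (x.1 : G) * y.1 * ((x.2 : G) * y.2) = x.1 * ((y.1 : G) * x.2) * y.2 := by group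
      _ = x.1 * ((x.2 : G) * y.1) * y.2 := by rw [(hcomm y.1 x.2).eq]
      _ = _ := by group
  have hinj : Function.Injective f := by
    rw [injective_iff_map_eq_one]
    rintro ⟨k, c⟩ h
    change (k : G) * c = 1 at h
    have hk : (k : G) ∈ K ⊓ C := Subgroup.mem_inf.mpr
      ⟨k.2, by rw [eq_inv_of_mul_eq_one_left h]; exact inv_mem c.2⟩
    rw [hKC, Subgroup.mem_bot] at hk
    rw [hk, one_mul] at h
    exact Prod.ext (Subtype.ext hk) (Subtype.ext h)
  let e : K × C ≃* G := MulEquiv.ofBijective f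
    ((Nat.bijective_iff_injective_and_card _).mpr ⟨hinj, by rw [Nat.card_prod, hcard]⟩)
  refine mem_of_surjective e.symm.toMonoidHom e.symm.surjective ?_
  obtain ⟨φ, hφ⟩ := mem_iff.mp ha
  obtain ⟨ψ, hψ⟩ := mem_iff.mp hb
  refine mem_iff.mpr ⟨⟨_, (S0188.result (fun x => (φ : K → ℂ) x.1 * (ψ : C → ℂ) x.2)).mpr
    ⟨_, _, φ.2, ψ.2, rfl⟩⟩, ?_⟩
  show (φ : K → ℂ) 1 * (ψ : C → ℂ) 1 = _
  rw [hφ, hψ, Nat.cast_mul]

/-- A group of order 120 with a simple normal subgroup of index two and a self-centralising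
subgroup of order five has a degree divisible by six. -/
theorem exists_six_dvd (hG : Nat.card G = 120) (N : Subgroup G) [N.Normal] [IsSimpleGroup N]
    (hN : Nat.card N = 60) [Fact (Nat.Prime 5)] (P : Sylow 5 G) (hn : Nat.card (Sylow 5 G) = 6)
    (hP : Nat.card (P : Subgroup G) = 5)
    (hC : Subgroup.centralizer ((P : Subgroup G) : Set G) = P) :
    ∃ d ∈ Cfsg.charDegrees G, 6 ∣ d := by
  classical
  haveI := Fintype.ofFinite G
  by_contra hno
  push Not at hno
  have hna : ¬ IsMulCommutative N :=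
    SmallGroups.Sylow.not_comm_of_card (by rw [hN]; norm_num)
  have hidx : N.index = 2 := by
    have := N.card_mul_index
    rw [hN, hG] at this
    omega
  have hNn : Nat.card (Subgroup.normalizer ((P : Subgroup G) : Set G)) = 20 := by
    have := SmallGroups.Sylow.card_normalizer_mul P
    rw [hn, hG] at this
    omega
  have he : (Subgroup.centralizer ((P : Subgroup G) : Set G)).relIndex
      (Subgroup.normalizer ((P : Subgroup G) : Set G)) = 4 := by
    rw [hC, Subgroup.relIndex]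
    have := ((P : Subgroup G).subgroupOf (Subgroup.normalizer ((P : Subgroup G) : Set G))).card_mul_index
    rw [Nat.card_congr (Subgroup.subgroupOfEquivOfLe Subgroup.le_normalizer).toEquiv, hP, hNn] at this
    omega
  obtain ⟨D⟩ := Classif.FirstPowerData.exists_data P hP he
  -- at most one nontrivial linear character
  have hlin : ∀ ψ ψ' : Cfsg.IrrCharacter G, ψ ≠ oneChar G → ψ' ≠ oneChar G →
      deg ψ = 1 → deg ψ' = 1 → ψ = ψ' := by
    have key : ∀ ψ : Cfsg.IrrCharacter G, ψ ≠ oneChar G → deg ψ = 1 →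
        ∀ g, (ψ : G → ℂ) g = if g ∈ N then 1 else -1 := by
      intro ψ hne h1
      obtain ⟨μ, hμ⟩ := Clifford.Linear.exists_hom (lam := (ψ : G → ℂ))
        ⟨isCharacter_irr ψ, by rw [apply_one_eq, h1, Int.cast_one]⟩
      have hg' : ∀ g, (ψ : G → ℂ) g = (μ g : ℂ) := fun g => by rw [← hμ]; rfl
      have hker : ∀ y ∈ N, μ y = 1 := fun y hy => by
        have hle : commutator N ≤ (μ.comp N.subtype).ker := Abelianization.commutator_subset_ker _
        exact hle (SmallGroups.Sylow.commutator_eq_top hna ▸ Subgroup.mem_top (⟨y, hy⟩ : N))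
      have hsq : ∀ g, (μ g : ℂ) = 1 ∨ (μ g : ℂ) = -1 := fun g => by
        have h2 : μ g * μ g = 1 := by
          rw [← map_mul]
          exact hker _ (Subgroup.mul_self_mem_of_index_two hidx g)
        exact mul_self_eq_one_iff.mp (by rw [← Units.val_mul, h2, Units.val_one])
      obtain ⟨g₀, hg₀⟩ : ∃ g₀, (μ g₀ : ℂ) ≠ 1 := by
        by_contra hall
        push Not at hall
        exact hne (Subtype.ext (funext fun g => by rw [hg', hall, oneChar_apply]))
      intro g
      split_ifs with h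
      · rw [hg', hker g h, Units.val_one]
      · have hg₀N : g₀ ∉ N := fun hm => hg₀ (by rw [hker g₀ hm, Units.val_one])
        have hmem : g * g₀ ∈ N := (Subgroup.mul_mem_iff_of_index_two hidx).mpr (iff_of_false h hg₀N)
        have h3 := congrArg Units.val (hker _ hmem)
        rw [map_mul, Units.val_mul, Units.val_one, (hsq g₀).resolve_left hg₀] at h3
        rw [hg']
        linear_combination -h3
    intro ψ ψ' h h' e e'
    exact Subtype.ext (funext fun g => by rw [key ψ h e, key ψ' h' e'])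
  -- the signed degrees
  have hsq := D.square_sum
  rw [hG] at hsq
  have hfam : D.fam.card = 1 := by have := D.fam_card; omega
  have hpos : ∀ ψ : Cfsg.IrrCharacter G, 1 ≤ deg ψ := fun ψ => by
    obtain ⟨n, hn, hn'⟩ := exists_degree_pos ψ
    rw [apply_one_eq] at hn'
    have : deg ψ = n := by exact_mod_cast hn'
    omega
  have hθK : ∀ χ ∈ D.K, deg χ ^ 2 ≤ 120 := fun χ hχ => by
    have := Finset.single_le_sum (f := fun χ => deg χ ^ 2) (fun χ _ => sq_nonneg _) hχ
    simp only [hfam, Nat.cast_one, Nat.cast_ofNat, one_mul] at hsq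
    nlinarith [sq_nonneg (deg D.θ)]
  have hθ2 : deg D.θ ^ 2 ≤ 120 := by
    simp only [hfam, Nat.cast_one, Nat.cast_ofNat, one_mul] at hsq
    have := Finset.sum_nonneg (s := D.K) (f := fun χ => deg χ ^ 2) fun χ _ => sq_nonneg _
    nlinarith
  have hopt : ∀ (ψ : Cfsg.IrrCharacter G) (s : ℤ), s = 1 ∨ s = -1 → (5 : ℤ) ∣ s * deg ψ - 1 →
      deg ψ ^ 2 ≤ 120 → s * deg ψ = 1 ∧ deg ψ = 1 ∨ s * deg ψ = -4 := by
    intro ψ s hs hd hb
    have hdvd : (deg ψ).natAbs ∣ 120 := by
      rw [natAbs_deg, ← hG]; exact H80.ClassMult.charDegree_dvd_card ψ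
    have h6 : ¬ 6 ∣ (deg ψ).natAbs := by rw [natAbs_deg]; exact hno _ ⟨ψ, rfl⟩
    have h10 : deg ψ ≤ 10 := by nlinarith
    have h1 := hpos ψ
    generalize deg ψ = x at *
    obtain ⟨k, hk⟩ := hd
    rcases hs with rfl | rfl <;> interval_cases x <;>
      first
      | omega
      | (norm_num at hdvd; done)
      | (norm_num at h6; done)
      | (norm_num; done)
      | (left; norm_num; done)
      | (right; norm_num; done)
  set f : Cfsg.IrrCharacter G → ℤ := fun χ => D.a χ * deg χ with hf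
  have hK : ∀ χ ∈ D.K, f χ = 1 ∧ deg χ = 1 ∨ f χ = -4 := fun χ hχ => by
    refine hopt χ _ (D.a_unit χ hχ) ?_ (hθK χ hχ)
    obtain ⟨k, hk⟩ := D.deg_cong hP hχ
    rcases D.a_unit χ hχ with h | h <;> rw [h] at hk ⊢
    · exact ⟨k, by omega⟩
    · exact ⟨-k, by omega⟩
  have hθ : -D.δ * deg D.θ = 1 ∧ deg D.θ = 1 ∨ -D.δ * deg D.θ = -4 := by
    refine hopt D.θ _ (by rcases D.δ_unit with h | h <;> rw [h] <;> norm_num) ?_ hθ2
    obtain ⟨k, hk⟩ := D.θ_cong hP
    exact ⟨-k - 1, by push_cast at hk; linarith⟩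
  have hdeq := D.degree_eq
  obtain ⟨a, b, c, hab, hac, hbc, hKe⟩ := Finset.card_eq_three.mp
    (show D.K.card = 3 by have := D.card_K; omega)
  have haK : a ∈ D.K := by rw [hKe]; simp
  have hbK : b ∈ D.K := by rw [hKe]; simp
  have hcK : c ∈ D.K := by rw [hKe]; simp
  rw [hKe, Finset.sum_insert (by simp [hab, hac]), Finset.sum_pair hbc] at hdeq
  have hne : ∀ χ ∈ D.K, χ ≠ oneChar G := fun χ hχ e => D.one_not_mem (e ▸ hχ)
  have hnθ : ∀ χ ∈ D.K, χ ≠ D.θ := fun χ hχ e => D.θ_not_mem (e ▸ hχ)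
  change 1 + (f a + (f b + f c)) = _ at hdeq
  rcases hK a haK with ⟨ea, da⟩ | ea <;> rcases hK b hbK with ⟨eb, db⟩ | eb <;>
    rcases hK c hcK with ⟨ec, dc⟩ | ec <;> rcases hθ with ⟨et, dt⟩ | et <;>
    first
    | omega
    | exact hab (hlin a b (hne a haK) (hne b hbK) da db)
    | exact hac (hlin a c (hne a haK) (hne c hcK) da dc)
    | exact hbc (hlin b c (hne b hbK) (hne c hcK) db dc)
    | exact hnθ a haK (hlin a D.θ (hne a haK) D.θ_ne_one da dt)
    | exact hnθ b hbK (hlin b D.θ (hne b hbK) D.θ_ne_one db dt)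
    | exact hnθ c hcK (hlin c D.θ (hne c hcK) D.θ_ne_one dc dt)
    | (rw [neg_mul] at et; omega)

end Cfsg.Agent.Lib.SmallSimple.Degrees
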