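import Cfsg.Agent.Lib.Classif.PrimeDegrees
import Mathlib.RepresentationTheory.Character

/-!
A Frobenius normaliser `7 : 6` excludes the degree `6`: an inverting involution would have trace
zero, whereas in a perfect group its trace is congruent to the degree modulo 4.
-/

set_option autoImplicit false
set_option linter.style.haveILetI false

namespace Cfsg.Agent.Lib.SmallSimple.DegreeSix

open Cfsg.Agent.Lib.Characters Cfsg.Agent.Lib.Characters.Basic
open Cfsg.Agent.Lib.Classif.PrimeExceptional (deg apply_one_eq)

universe u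

/-- If the restriction of `ψ` to `P` has no trivial constituent, an element inverting `P` has
trace zero. -/
theorem apply_eq_zero {G : Type u} [Group G] [Finite G] (P : Subgroup G) (hodd : Odd (Nat.card P))
    (ψ : Cfsg.IrrCharacter G)
    (hsum : ∀ [Fintype P], ∑ x : P, (ψ : G → ℂ) (x : G) = 0) {u : G}
    (hinv : ∀ x ∈ P, u * x * u⁻¹ = x⁻¹) : (ψ : G → ℂ) u = 0 := by
  classical
  haveI := Fintype.ofFinite P
  have hc0 : (Fintype.card P : ℂ) ≠ 0 := Nat.cast_ne_zero.mpr Fintype.card_ne_zero
  haveI : Invertible (Nat.card P : ℂ) :=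
    invertibleOfNonzero (Nat.cast_ne_zero.mpr Nat.card_pos.ne')
  obtain ⟨n, ρ, -, hχ⟩ := exists_rep ψ
  have hone : ∀ x : P, (ψ : G → ℂ) ((x : G) * u) = (ψ : G → ℂ) u := by
    intro x
    obtain ⟨k, hk⟩ := hodd
    set y : G := (x : G) ^ (k + 1) with hy
    have hyP : y ∈ P := pow_mem x.2 _
    have hyu : u * y⁻¹ = y * u := by
      have h := hinv _ (inv_mem hyP)
      rw [inv_inv] at h
      calc u * y⁻¹ = u * y⁻¹ * u⁻¹ * u := by group
        _ = y * u := by rw [h]
    have hxu : (x : G) * u = y * u * y⁻¹ := by
      have hx : (x : G) ^ Nat.card P = 1 := by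
        exact_mod_cast congrArg Subtype.val (pow_card_eq_one' (x := x))
      have hyy : y * y = (x : G) := by
        rw [hy, ← pow_add, show k + 1 + (k + 1) = (2 * k + 1) + 1 by omega, pow_succ, ← hk, hx,
          one_mul]
      rw [mul_assoc, hyu, ← mul_assoc, hyy]
    rw [hxu]
    exact isClassFunction_irr ψ u y
  set σ : Representation ℂ P _ := ρ.comp P.subtype with hσ
  have hfin := Representation.card_inv_mul_sum_char_eq_finrank (ρ := σ)
  have hchar : ∀ x : P, σ.character x = (ψ : G → ℂ) (x : G) := fun x => by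
    rw [← hχ]; rfl
  simp only [hchar, hsum] at hfin
  have hbot : Representation.invariants σ = ⊥ := by
    rw [← Submodule.finrank_eq_zero (R := ℂ)]
    have h0 : (Module.finrank ℂ (Representation.invariants σ) : ℂ) = 0 := by
      rw [← hfin]; simp
    exact_mod_cast h0
  have hzero : ∀ v, (∑ x : P, σ x) v = 0 := by
    intro v
    have hm : (∑ x : P, σ x) v ∈ Representation.invariants σ := by
      intro g
      simp only [LinearMap.coe_sum, Finset.sum_apply, map_sum]
      exact Fintype.sum_equiv (Equiv.mulLeft g) _ _ fun x => by simp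
    rwa [hbot, Submodule.mem_bot] at hm
  have hop : (∑ x : P, ρ ((x : G) * u)) = 0 := by
    refine LinearMap.ext fun v => ?_
    have h := hzero (ρ u v)
    simpa [LinearMap.coe_sum, Finset.sum_apply, hσ] using h
  have htr := congrArg (LinearMap.trace ℂ _) hop
  rw [map_sum, map_zero, Finset.sum_congr rfl (g := fun _ => (ψ : G → ℂ) u) fun x _ => by
    rw [← hone x, ← hχ]; rfl, Finset.sum_const, Finset.card_univ, nsmul_eq_mul] at htr
  exact (mul_eq_zero.mp htr).resolve_left hc0

end Cfsg.Agent.Lib.SmallSimple.DegreeSix
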