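import Cfsg.Agent.Lib.Classif.OrdersTo6232
import Cfsg.Agent.Lib.Classif.ClassSum
import Cfsg.Agent.Lib.BC77.ThreePrime.Four
import Cfsg.Agent.Lib.SmallSimple.DegreeSix
import Cfsg.Agent.S1010

/-!
# Simple orders between 1093 and 3640

Only 2448, 2520 and 3420 occur.
-/

set_option autoImplicit false
set_option linter.style.haveILetI false
set_option linter.unusedSectionVars false
set_option linter.unusedTactic false
set_option linter.unreachableTactic false

namespace Cfsg.Agent.Lib.SmallSimple.OrdersTo3640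

open Cfsg.Agent.Lib.Classif
open Cfsg.Agent.Lib.Classif.PrimeExceptional (deg apply_one_eq two_le_deg natAbs_deg)
open Cfsg.Agent.Lib.Characters.Basic

variable {G : Type*} [Group G] [Finite G] [IsSimpleGroup G]

theorem live_1512 : PrimeDegrees.live 1512 7 = [(36, 6)] := by decide +kernel
theorem live_2160 : PrimeDegrees.live 2160 5 = [(216, 2)] := by decide +kernel
theorem live_1680 : PrimeDegrees.live 1680 5 = [(21, 4)] := by decide +kernel
theorem live_3360_five : PrimeDegrees.live 3360 5 = [(21, 4), (56, 4), (336, 2)] := by decide +kernel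
theorem live_3360_seven : PrimeDegrees.live 3360 7 = [(120, 2)] := by decide +kernel

/-- Both candidate normalisers of an intersection of Sylow 5-subgroups in order 1800 are impossible. -/
theorem card_ne_1800 : Nat.card G ≠ 1800 := by
  intro h
  haveI : Fact (Nat.Prime 5) := ⟨by norm_num⟩
  have hG := SmallOrderKills3.not_comm h (by norm_num)
  have hfac : Nat.card G = 5 ^ 2 * 72 := by rw [h]; norm_num
  have hdiv := SmallGroups.Sylow.card_sylow_mem (p := 5) hfac (by norm_num)
  have hne := SmallGroups.Sylow.card_sylow_ne_one (p := 5) hfac (by norm_num) two_ne_zero (by norm_num)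
  have hmod : Nat.card (Sylow 5 G) % 5 ^ 2 ≠ 1 := by
    rw [show ((72 : ℕ).divisors.filter fun d => d % 5 = 1) = {1, 6, 36} by decide +kernel] at hdiv
    simp only [Finset.mem_insert, Finset.mem_singleton] at hdiv
    omega
  obtain ⟨P, R, N, hPR, -, -, hPN, hRN, htop, m', d, hN, hm', hd, hd5, h5d⟩ :=
    exists_intersection_normalizer hfac (by norm_num) le_rfl hmod
  have hm'0 : m' ≠ 0 := fun h0 => by simp [h0] at hm'
  have hd6 : 6 ≤ m' := (show 6 ≤ d by omega).trans (Nat.le_of_dvd (Nat.pos_of_ne_zero hm'0) hd)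
  have h12 : N.index ≤ 12 := by nlinarith
  have hfact := SmallGroups.Sylow.two_mul_card_dvd_factorial hG htop
  rw [h] at hfact
  have hidx : N.index = 12 := by
    have hdvd : N.index ∣ 72 := ⟨m', by rw [← hm', mul_comm]⟩
    generalize N.index = i at h12 hfact hdvd
    interval_cases i <;>
      first
      | rfl
      | (norm_num [Nat.factorial] at hfact; done)
      | (norm_num at hdvd; done)
  rw [hidx] at hm'
  obtain rfl : m' = 6 := by omega
  have hcard : ∀ S : Sylow 5 G, (S : Subgroup G) ≤ N →
      Nat.card ((S : Subgroup G).subgroupOf N) = 25 := by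
    intro S hS
    rw [Nat.card_congr (Subgroup.subgroupOfEquivOfLe hS).toEquiv,
      SmallGroups.Sylow.card_sylow_eq S hfac (by norm_num)]
    norm_num
  have := BC77.ThreePrime.eq_of_card_150 (N := N) (by rw [hN]; norm_num) _ _ (hcard P hPN) (hcard R hRN)
  exact hPR (Sylow.ext ((inf_eq_left.mpr hPN).symm.trans
    ((Subgroup.subgroupOf_inj.mp this).trans (inf_eq_left.mpr hRN))))

theorem card_ne_1680 : Nat.card G ≠ 1680 := by
  intro h
  haveI : Fact (Nat.Prime 5) := ⟨by norm_num⟩
  obtain ⟨P, n, e, c, hmem, hP, hn, -⟩ := PrimeDegrees.exists_live (SmallOrderKills3.not_comm h (by norm_num))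
    (p := 5) h (by norm_num) (by norm_num) (by norm_num) (by norm_num)
  rw [live_1680, List.mem_singleton, Prod.mk.injEq] at hmem
  exact S1010.result (hn.trans hmem.1)

/-- The degree six would be needed by the family of the prime 7. -/
theorem card_ne_1512 : Nat.card G ≠ 1512 := by
  intro h
  classical
  haveI : Fact (Nat.Prime 7) := ⟨by norm_num⟩
  have hG := SmallOrderKills3.not_comm h (by norm_num)
  have hperf := SmallGroups.Sylow.commutator_eq_top hG
  obtain ⟨P, n, e, c, hmem, hP, hn, hc, hC, ⟨D⟩⟩ :=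
    PrimeDegrees.exists_live hG (p := 7) h (by norm_num) (by norm_num) (by norm_num) (by norm_num)
  rw [live_1512, List.mem_singleton, Prod.mk.injEq] at hmem
  obtain ⟨rfl, rfl⟩ := hmem
  have hCP := SmallOrderKills4.centralizer_eq P hP (by rw [hC, hc])
  have hN : Nat.card (Subgroup.normalizer ((P : Subgroup G) : Set G)) = 42 := by
    have := SmallGroups.Sylow.card_normalizer_mul P
    rw [hn, h] at this
    omega
  haveI : Fact (Nat.Prime 2) := ⟨Nat.prime_two⟩
  obtain ⟨w, hw⟩ := exists_prime_orderOf_dvd_card'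
    (G := Subgroup.normalizer ((P : Subgroup G) : Set G)) 2 (by rw [hN]; norm_num)
  set u : G := (w : G) with hu
  have huo : orderOf u = 2 := by rw [hu, Subgroup.orderOf_coe, hw]
  have huu : u * u = 1 := by rw [← pow_two, ← huo, pow_orderOf_eq_one]
  have hinv : ∀ x ∈ (P : Subgroup G), u * x * u⁻¹ = x⁻¹ :=
    (FixedSylow.inverts_or_centralizes P hP w.2 huu).resolve_left fun hmem => by
      rw [hCP] at hmem
      have hd := Subgroup.orderOf_dvd_natCard _ hmem
      rw [hP, huo] at hd
      norm_num at hd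
  have hsix : ∀ ψ : Cfsg.IrrCharacter G,
      (∀ y ∈ (P : Subgroup G), y ≠ 1 → (ψ : G → ℂ) y = -1) → (deg ψ).natAbs ≠ 6 := by
    intro ψ hval h6
    have hd : deg ψ = 6 := by
      have : 0 ≤ deg ψ := by rw [deg]; exact Int.natCast_nonneg _
      omega
    have h0 : (ψ : G → ℂ) u = 0 := by
      refine DegreeSix.apply_eq_zero (P : Subgroup G) (by rw [hP]; decide) ψ ?_ hinv
      intro _
      rw [← Finset.add_sum_erase _ _ (Finset.mem_univ (1 : (P : Subgroup G))),
        Finset.sum_congr rfl (g := fun _ => (-1 : ℂ)) fun (y : (P : Subgroup G)) hy =>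
          hval y y.2 fun e' => (Finset.mem_erase.mp hy).1 (Subtype.ext e'),
        Finset.sum_const, Finset.card_erase_of_mem (Finset.mem_univ _), Finset.card_univ,
        ← Nat.card_eq_fintype_card, hP, Subgroup.coe_one, apply_one_eq, hd]
      norm_num
    obtain ⟨v, hv, hmod, -⟩ := FirstPowerData.exists_int_mod_four hperf ψ huu
    rw [h0] at hv
    have hv0 : v = 0 := by exact_mod_cast hv.symm
    rw [hd, hv0] at hmod
    norm_num at hmod
  have hK : ∀ χ ∈ D.K, (deg χ).natAbs ≠ 6 := by
    intro χ hχ h6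
    refine hsix χ (fun y hy hy1 => ?_) h6
    have hv := D.value χ hχ y hy hy1 1 (one_mem _) (by rw [orderOf_one]; norm_num)
    rw [mul_one] at hv
    have hcong := D.deg_cong hP hχ
    have h0 : 0 ≤ deg χ := by rw [deg]; exact Int.natCast_nonneg _
    rcases D.a_unit χ hχ with ha | ha <;> rw [ha] at hv hcong
    · omega
    · rw [hv]; norm_num
  have hθ : (deg D.θ).natAbs ≠ 6 := by
    intro h6
    refine hsix D.θ (fun y hy hy1 => ?_) h6
    have hfam : D.fam = {D.θ} := by
      obtain ⟨x, hx⟩ := Finset.card_eq_one.mp (show D.fam.card = 1 by have := D.fam_card; omega)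
      have hm := D.θ_mem
      rw [hx, Finset.mem_singleton] at hm
      rw [hx, hm]
    have hyo : 7 ∣ orderOf y := by
      rw [orderOf_eq_prime (FixedSylow.pow_eq_one P hP hy) hy1]
    have hs := D.fam_singular hCP y hyo
    rw [hfam, Finset.sum_singleton] at hs
    have hcong := D.θ_cong hP
    have h0 : 0 ≤ deg D.θ := by rw [deg]; exact Int.natCast_nonneg _
    rcases D.δ_unit with hd | hd <;> rw [hd] at hs hcong
    · rw [hs]; norm_num
    · omega
  obtain ⟨χ₀, hχ₀⟩ : D.K.Nonempty := Finset.card_pos.mp (by have := D.card_K; omega)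
  exact PrimeDegrees.false_of_degGen hperf hP D h (fun k => decide (k ≠ 6)) (fun k => decide (k ≠ 6))
    (fun k => decide (k ≠ 6)) hχ₀ (by simpa using hK _ hχ₀) (fun χ hχ _ => by simpa using hK χ hχ)
    (by simpa using hθ) (by decide +kernel)

/-- The degrees `4, 3` are too small for the Sylow 3-subgroup, and `9, 8` contradict the class
multiplication relation. -/
theorem card_ne_2160 : Nat.card G ≠ 2160 := by
  intro h
  classical
  haveI := Fintype.ofFinite G
  haveI : Fact (Nat.Prime 5) := ⟨by norm_num⟩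
  haveI : Fact (Nat.Prime 3) := ⟨Nat.prime_three⟩
  haveI : Fact (Nat.Prime 2) := ⟨Nat.prime_two⟩
  have hG := SmallOrderKills3.not_comm h (by norm_num)
  have hperf := SmallGroups.Sylow.commutator_eq_top hG
  obtain ⟨P, n, e, c, hmem, hP, hn, hc, hC, ⟨D⟩⟩ :=
    PrimeDegrees.exists_live hG (p := 5) h (by norm_num) (by norm_num) (by norm_num) (by norm_num)
  rw [live_2160, List.mem_singleton, Prod.mk.injEq] at hmem
  obtain ⟨rfl, rfl⟩ := hmem
  have hCP := SmallOrderKills4.centralizer_eq P hP (by rw [hC, hc])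
  obtain ⟨χ, hK⟩ := Finset.card_eq_one.mp (show D.K.card = 1 by have := D.card_K; omega)
  have hχ : χ ∈ D.K := by rw [hK]; exact Finset.mem_singleton_self _
  have hθ3 : deg D.θ ≠ 3 := by
    intro h3
    let Q : Sylow 3 G := default
    have hle := BC77.ThreePrime.card_three_le hG D.θ D.θ_ne_one
      (by rw [apply_one_eq, h3]; norm_num) Q Q.2
    rw [SmallGroups.Sylow.card_sylow_eq Q (a := 3) (m := 80) (by rw [h]; norm_num) (by norm_num)]
      at hle
    norm_num at hle
  have hθ : deg D.θ = 8 := by
    have h0 : 0 ≤ deg D.θ := by rw [deg]; exact Int.natCast_nonneg _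
    by_contra hne
    exact PrimeDegrees.false_of_degGen hperf hP D h (fun _ => true) (fun _ => true)
      (fun k => decide (k ≠ 3) && decide (k ≠ 8)) hχ rfl (fun _ _ _ => rfl)
      (by simp only [Bool.and_eq_true, decide_eq_true_eq]; exact ⟨by omega, by omega⟩)
      (by decide +kernel)
  have hdeq := D.degree_eq
  rw [hK, Finset.sum_singleton, hθ] at hdeq
  have hdvd : (deg χ).natAbs ∣ 2160 := by
    rw [natAbs_deg, ← h]; exact H80.ClassMult.charDegree_dvd_card χ
  have h0 : 0 ≤ deg χ := by rw [deg]; exact Int.natCast_nonneg _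
  obtain ⟨ha, hd, hdeg⟩ : D.a χ = -1 ∧ D.δ = -1 ∧ deg χ = 9 := by
    rcases D.a_unit χ hχ with ha | ha <;> rcases D.δ_unit with hd | hd <;> rw [ha, hd] at hdeq
    · exfalso
      rw [show deg χ = 7 by omega] at hdvd
      norm_num at hdvd
    · omega
    · omega
    · exact ⟨ha, hd, by omega⟩
  have hN : Nat.card (Subgroup.normalizer ((P : Subgroup G) : Set G)) = 2 * 5 := by
    have := SmallGroups.Sylow.card_normalizer_mul P
    rw [hn, h] at this
    omega
  obtain ⟨w, hw⟩ := exists_prime_orderOf_dvd_card'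
    (G := Subgroup.normalizer ((P : Subgroup G) : Set G)) 2 (by rw [hN]; norm_num)
  set u : G := (w : G) with hu
  have huo : orderOf u = 2 := by rw [hu, Subgroup.orderOf_coe, hw]
  have huu : u * u = 1 := by rw [← pow_two, ← huo, pow_orderOf_eq_one]
  have hsum := ClassSum.class_sum P hP (by norm_num) hCP D hN w.2 huo
  have hrel := D.rel u (by rw [huo]; norm_num)
  obtain ⟨x, hx, hx4, hxb⟩ := FirstPowerData.exists_int_mod_four hperf D.θ huu
  rw [hθ] at hx4 hxb
  rw [hK, Finset.sum_singleton, ha, hd, hx] at hrel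
  have hχu : (χ : G → ℂ) u = 1 + (x : ℂ) := by push_cast at hrel; linear_combination -hrel
  rw [hK, Finset.sum_singleton, ha, hd, hθ, hdeg, hx, hχu, h] at hsum
  push_cast at hsum
  set C := Nat.card (Subgroup.centralizer ({u} : Set G))
  have hq : (C : ℤ) ^ 2 = 6 * (x - 8) ^ 2 := by
    have h' : ((C : ℂ)) ^ 2 = 6 * ((x : ℂ) - 8) ^ 2 := by
      linear_combination (-(1 / 5 : ℂ)) * hsum
    exact_mod_cast h'
  have hC0 : 0 < C := Nat.card_pos
  obtain ⟨hb1, hb2⟩ := abs_le.mp hxb
  have hcases : x = -8 ∨ x = -4 ∨ x = 0 ∨ x = 4 ∨ x = 8 := by omega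
  have hnsq : ∀ m : ℕ, m ≤ 40 → ∀ k ∈ [1536, 864, 384, 96], m ^ 2 ≠ k := by decide +kernel
  have hCb : C ≤ 40 := by
    have h2 : (C : ℤ) ^ 2 ≤ 1536 := by
      rcases hcases with rfl | rfl | rfl | rfl | rfl <;> norm_num at hq ⊢ <;> omega
    have : (C : ℤ) ≤ 40 := by nlinarith
    omega
  rcases hcases with rfl | rfl | rfl | rfl | rfl <;> norm_num at hq
  · exact hnsq C hCb 1536 (by simp) (by exact_mod_cast hq)
  · exact hnsq C hCb 864 (by simp) (by exact_mod_cast hq)
  · exact hnsq C hCb 384 (by simp) (by exact_mod_cast hq)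
  · exact hnsq C hCb 96 (by simp) (by exact_mod_cast hq)
  · omega

/-- The exceptional characters of degree 16 of the prime 7 do not fit the families of the prime 5. -/
theorem card_ne_3360 : Nat.card G ≠ 3360 := by
  intro h
  classical
  haveI : Fact (Nat.Prime 5) := ⟨by norm_num⟩
  haveI : Fact (Nat.Prime 7) := ⟨by norm_num⟩
  haveI : Fact (Nat.Prime 3) := ⟨Nat.prime_three⟩
  have hG := SmallOrderKills3.not_comm h (by norm_num)
  have hperf := SmallGroups.Sylow.commutator_eq_top hG
  obtain ⟨P, n, e, c, hmem, hP, hn, hc, hC, ⟨E⟩⟩ :=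
    PrimeDegrees.exists_live hG (p := 5) h (by norm_num) (by norm_num) (by norm_num) (by norm_num)
  rw [live_3360_five] at hmem
  simp only [List.mem_cons, Prod.mk.injEq, List.not_mem_nil, or_false] at hmem
  rcases hmem with ⟨rfl, rfl⟩ | ⟨rfl, rfl⟩ | ⟨rfl, rfl⟩
  · exact S1010.result hn
  · -- an element of order three centralising `P` fixes too many Sylow subgroups
    obtain rfl : c = 15 := hc
    set C := Subgroup.centralizer ((P : Subgroup G) : Set G) with hCdef
    set N := Subgroup.normalizer ((P : Subgroup G) : Set G) with hNdef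
    have hN : Nat.card N = 60 := by
      have := SmallGroups.Sylow.card_normalizer_mul P
      rw [hn, h, ← hNdef] at this
      omega
    obtain ⟨w, hw⟩ := exists_prime_orderOf_dvd_card' (G := C) 3 (by rw [hC]; norm_num)
    set v : G := (w : G) with hv
    have hvo : orderOf v = 3 := by rw [hv, Subgroup.orderOf_coe, hw]
    have hv1 : v ≠ 1 := fun e' => by rw [e', orderOf_one] at hvo; omega
    obtain ⟨hf1, hf2⟩ := SmallOrderKills3.fixed_facts hG P hP w.2 hv1 (by rw [hn]; norm_num)
    have hf3 := SmallOrderTools.card_fixed_commute_modEq (α := Sylow 5 G) (p := 3) 1 v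
      (n := 1) (by rw [pow_one, ← hvo, pow_orderOf_eq_one]) (Commute.one_left v)
    simp only [one_smul, true_and] at hf3
    rw [Nat.card_congr (Equiv.subtypeUnivEquiv (p := fun _ : Sylow 5 G => True) fun _ => trivial),
      hn] at hf3
    rw [hn] at hf2
    have hkey := FixedSylow.card_fixed_mul P v
    rw [P.stabilizer_eq_normalizer, show Subgroup.normalizer (P : Set G) = N from rfl, hN] at hkey
    set f := Nat.card {Q : Sylow 5 G // v • Q = Q}
    set k := Nat.card {u : G // u ∈ N ∧ IsConj v u} with hk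
    set A := Nat.card (Subgroup.centralizer ({v} : Set G)) with hA
    have hAdvd : A ∣ 3360 := h ▸ Subgroup.card_subgroup_dvd_card _
    have hPC : (P : Subgroup G) ≤ C := by
      intro x hx
      rw [hCdef, Subgroup.mem_centralizer_iff]
      intro y hy
      haveI := isCyclic_of_prime_card hP
      exact congrArg Subtype.val
        ((IsCyclic.commGroup (α := (P : Subgroup G))).mul_comm ⟨y, hy⟩ ⟨x, hx⟩)
    have hCN : C ≤ N := SmallGroups.Sylow.centralizer_le_normalizer _
    haveI hnorm : (C.subgroupOf N).Normal := Subgroup.normal_subgroupOf_centralizer_normalizer _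
    have hk10 : k ≤ 10 := by
      have hidx : (C.subgroupOf N).index = 4 := by
        have h' := (C.subgroupOf N).card_mul_index
        rw [Nat.card_congr (Subgroup.subgroupOfEquivOfLe hCN).toEquiv, hC, hN] at h'
        omega
      have hin : ∀ u, u ∈ N → IsConj v u → u ∈ C ∧ u ∉ (P : Subgroup G) := by
        intro u hu hc'
        obtain ⟨g, rfl⟩ := isConj_iff.mp hc'
        have hgo : orderOf (g * v * g⁻¹) = 3 := by rw [← hvo]; exact (MulAut.conj g).orderOf_eq v
        have h3 : (g * v * g⁻¹) ^ 3 = 1 := by rw [← hgo, pow_orderOf_eq_one]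
        have h4 : (g * v * g⁻¹) ^ 4 = g * v * g⁻¹ := by rw [pow_succ, h3, one_mul]
        refine ⟨?_, fun hP' => ?_⟩
        · have := Subgroup.pow_index_mem (H := C.subgroupOf N) (⟨_, hu⟩ : N)
          rw [hidx, Subgroup.mem_subgroupOf, Subgroup.coe_pow, h4] at this
          exact this
        · have hd := Subgroup.orderOf_dvd_natCard _ hP'
          rw [hgo, hP] at hd
          norm_num at hd
      have hle : k + Nat.card (P : Subgroup G) ≤ Nat.card C := by
        rw [hk, ← Nat.card_sum]
        refine Nat.card_le_card_of_injective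
          (Sum.elim (fun u => (⟨u.1, (hin u.1 u.2.1 u.2.2).1⟩ : C)) fun x => ⟨x.1, hPC x.2⟩) ?_
        rintro (a | a) (b | b) hab <;> simp only [Sum.elim_inl, Sum.elim_inr, Subtype.mk.injEq] at hab
        · exact congrArg Sum.inl (Subtype.ext hab)
        · exact absurd (hab ▸ b.2) (hin a.1 a.2.1 a.2.2).2
        · exact absurd (hab ▸ a.2) (hin b.1 b.2.1 b.2.2).2
        · exact congrArg Sum.inr (Subtype.ext hab)
      rw [hP, hC] at hle
      omega
    have hcases : f = 11 ∨ f = 26 ∨ f = 41 := by
      have : f % 3 = 2 := by rw [Nat.ModEq] at hf3; omega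
      omega
    have hbad : ∀ r ∈ [660, 1560, 2460], ∀ k ≤ 10, ∀ A ∈ (3360 : ℕ).divisors, A * k ≠ r := by
      decide +kernel
    have hA' : A ∈ (3360 : ℕ).divisors := Nat.mem_divisors.mpr ⟨hAdvd, by norm_num⟩
    rcases hcases with hf | hf | hf <;> rw [hf] at hkey
    · exact hbad 660 (by simp) k hk10 A hA' (by simpa using hkey.symm)
    · exact hbad 1560 (by simp) k hk10 A hA' (by simpa using hkey.symm)
    · exact hbad 2460 (by simp) k hk10 A hA' (by simpa using hkey.symm)
  · have hCP := SmallOrderKills4.centralizer_eq P hP (by rw [hC, hc])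
    obtain ⟨Q, n', e', c', hmem', hQ, hn', hc', hC', ⟨D⟩⟩ :=
      PrimeDegrees.exists_live hG (p := 7) h (by norm_num) (by norm_num) (by norm_num) (by norm_num)
    rw [live_3360_seven, List.mem_singleton, Prod.mk.injEq] at hmem'
    obtain ⟨rfl, rfl⟩ := hmem'
    obtain rfl : c' = 14 := hc'
    obtain ⟨hbK, hbθ⟩ := PrimeDegrees.two_mul_le_of_centralizer hG hQ hC' (by norm_num) (by norm_num)
      (by norm_num) D
    obtain ⟨χ₀, hχ₀⟩ : D.K.Nonempty := Finset.card_pos.mp (by have := D.card_K; omega)
    have h0 : 0 ≤ deg D.θ := by rw [deg]; exact Int.natCast_nonneg _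
    have hθ : deg D.θ = 16 := by
      by_contra hne
      exact PrimeDegrees.false_of_degGen hperf hQ D h (fun k => decide (14 ≤ k)) (fun _ => true)
        (fun k => decide (14 ≤ k) && decide (k ≠ 16)) hχ₀ (by simpa using hbK _ hχ₀)
        (fun _ _ _ => rfl)
        (by simp only [Bool.and_eq_true, decide_eq_true_eq]; exact ⟨by omega, by omega⟩)
        (by decide +kernel)
    have hmem : ∀ ψ ∈ D.fam, ψ ∈ E.K ∪ E.fam := by
      intro ψ hψ
      by_contra hne
      rw [Finset.mem_union, not_or] at hne
      have hd := PrimeDegrees.dvd_deg_of_other hP hCP E ψ (fun e' => D.fam_one (e' ▸ hψ)) hne.1 hne.2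
      rw [D.fam_deg ψ hψ, hθ] at hd
      norm_num at hd
    have heq : D.fam = E.K ∪ E.fam := by
      refine Finset.eq_of_subset_of_card_le hmem ?_
      rw [Finset.card_union_of_disjoint E.fam_disj]
      have := E.fam_card; have := E.card_K; have := D.fam_card
      omega
    obtain ⟨χ, hK⟩ := Finset.card_eq_one.mp (show E.K.card = 1 by have := E.card_K; omega)
    have h1 : deg χ = 16 := by
      rw [← hθ]; exact D.fam_deg χ (by rw [heq, hK]; simp)
    have h2 : deg E.θ = 16 := by
      rw [← hθ]; exact D.fam_deg _ (by rw [heq]; exact Finset.mem_union_right _ E.θ_mem)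
    have hdeq := E.degree_eq
    rw [hK, Finset.sum_singleton, h1, h2] at hdeq
    omega

/-- With a central subgroup `D` of order 5 in a subgroup `N` of index 12, the stabiliser of two
points in different `D`-orbits would be normal. -/
theorem false_of_index_twelve (h : Nat.card G = 3600) (N D : Subgroup G) (hidx : N.index = 12)
    (hD : Nat.card D = 5) (hDN : D ≤ N) (hcent : ∀ d ∈ D, ∀ n ∈ N, d * n = n * d) : False := by
  classical
  haveI : Fact (Nat.Prime 5) := ⟨by norm_num⟩
  have hG := SmallOrderKills3.not_comm h (by norm_num)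
  have hNtop : N ≠ ⊤ := fun e => by rw [e, Subgroup.index_top] at hidx; omega
  have hN : Nat.card N = 300 := by
    have := N.card_mul_index
    rw [hidx, h] at this
    omega
  -- a subgroup properly above `N` is everything
  have hover : ∀ H : Subgroup G, N ≤ H → H ≠ N → H = ⊤ := by
    intro H hle hne
    by_contra htop
    have hfact := SmallGroups.Sylow.two_mul_card_dvd_factorial hG htop
    rw [h] at hfact
    have hd : H.index ∣ 12 := hidx ▸ Subgroup.index_dvd_of_le hle
    have hne' : H.index ≠ 12 := fun he => hne (Subgroup.eq_of_le_of_card_ge hle (by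
      have := H.card_mul_index
      rw [he, h] at this
      omega)).symm
    have := Nat.le_of_dvd (by norm_num) hd
    generalize H.index = i at hfact hd hne' this
    interval_cases i <;>
      first
      | omega
      | (norm_num [Nat.factorial] at hfact; done)
      | (norm_num at hd; done)
  have hnormal : ∀ H : Subgroup G, (∀ g ∈ N, ∀ x ∈ H, g * x * g⁻¹ ∈ H) →
      ∀ g₁ : G, g₁ ∉ N → (∀ x ∈ H, g₁ * x * g₁⁻¹ ∈ H) → H.Normal := by
    intro H hH g₁ hg₁ hHg
    rw [← Subgroup.normalizer_eq_top_iff]
    refine hover _ (fun g hg => Subgroup.mem_normalizer_fintype (hH g hg)) fun he => hg₁ ?_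
    rw [← he]
    exact Subgroup.mem_normalizer_fintype hHg
  let o : G ⧸ N := ((1 : G) : G ⧸ N)
  have hsto : ∀ g : G, g • o = o ↔ g ∈ N := fun g => by
    show ((g * 1 : G) : G ⧸ N) = ((1 : G) : G ⧸ N) ↔ _
    rw [QuotientGroup.eq, mul_one, mul_one, inv_mem_iff]
  have hlift : ∀ x : G ⧸ N, ∃ g : G, g • o = x := fun x => by
    induction x using QuotientGroup.induction_on with
    | _ g => exact ⟨g, show ((g * 1 : G) : G ⧸ N) = _ by rw [mul_one]⟩
  have hstab : ∀ (g n : G), n • (g • o) = g • o ↔ g⁻¹ * n * g ∈ N := fun g n => by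
    rw [← hsto, mul_smul, mul_smul, inv_smul_eq_iff]
  set F := MulAction.fixedPoints D (G ⧸ N) with hF
  have hFmem : ∀ x : G ⧸ N, x ∈ F ↔ ∀ d ∈ D, d • x = x := fun x =>
    ⟨fun hx d hd => hx ⟨d, hd⟩, fun hx d => hx d d.2⟩
  have hcardX : Nat.card (G ⧸ N) = 12 := hidx
  have hmod := (IsPGroup.of_card (n := 1) (by rw [hD, pow_one]) :
    IsPGroup 5 D).card_modEq_card_fixedPoints (G ⧸ N)
  rw [hcardX] at hmod
  have hFle : Nat.card F ≤ 12 := hcardX ▸ Nat.card_le_card_of_injective _ Subtype.val_injective
  have hoF : o ∈ F := (hFmem o).mpr fun d hd => (hsto d).mpr (hDN hd)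
  -- `N` preserves the fixed points of `D`
  have hNF : ∀ n ∈ N, ∀ x ∈ F, n • x ∈ F := fun n hn x hx => (hFmem _).mpr fun d hd => by
    rw [← mul_smul, hcent d hd n hn, mul_smul, (hFmem x).mp hx d hd]
  have hF12 : Nat.card F ≠ 12 := by
    intro hk
    have hall : ∀ x, x ∈ F := fun x => by
      by_contra hx
      have := Finite.card_subtype_lt (p := fun x => x ∈ F) hx
      rw [hcardX] at this
      exact absurd hk (by exact this.ne)
    have hle : D ≤ N.normalCore := fun d hd g => by
      have := (hstab g⁻¹ d).mp ((hFmem _).mp (hall _) d hd)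
      simpa using this
    rcases (Subgroup.normalCore_normal N).eq_bot_or_eq_top with h' | h'
    · rw [h', le_bot_iff] at hle
      rw [hle, Subgroup.card_bot] at hD
      omega
    · exact hNtop (top_le_iff.mp (h' ▸ N.normalCore_le))
  have hF2 : Nat.card F ≠ 2 := by
    intro hk
    haveI : Nontrivial F := Finite.one_lt_card_iff_nontrivial.mp (by omega)
    obtain ⟨⟨x, hx⟩, hxo⟩ := exists_ne (⟨o, hoF⟩ : F)
    have hxo' : x ≠ o := fun e => hxo (Subtype.ext e)
    obtain ⟨g, rfl⟩ := hlift x
    have hfix : ∀ n ∈ N, n • (g • o) = g • o := by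
      intro n hn
      obtain ⟨a, b, hab, huniv⟩ := Nat.card_eq_two_iff.mp hk
      have h1 : n • (g • o) ≠ o := fun e => hxo' (by
        rw [← inv_smul_eq_iff.mpr e.symm, (hsto _).mpr (inv_mem hn)])
      have hu : ∀ z : F, z = a ∨ z = b := fun z => by
        have := huniv ▸ Set.mem_univ z
        simpa using this
      rcases hu ⟨_, hNF n hn _ hx⟩ with e1 | e1 <;> rcases hu ⟨_, hx⟩ with e2 | e2 <;>
        rcases hu ⟨o, hoF⟩ with e3 | e3 <;>
        first
        | exact congrArg Subtype.val (e1.trans e2.symm)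
        | exact absurd (congrArg Subtype.val (e1.trans e3.symm)) h1
        | exact absurd (congrArg Subtype.val (e2.trans e3.symm)) hxo'
    have hgN : g ∉ N := fun hg => hxo' ((hsto g).mpr hg)
    have hn := hnormal N (fun a ha x hx => mul_mem (mul_mem ha hx) (inv_mem ha)) g⁻¹
      (fun hg => hgN (inv_mem_iff.mp hg))
      (fun n hn => by simpa using (hstab g n).mp (hfix n hn))
    rcases hn.eq_bot_or_eq_top with h' | h'
    · rw [h', Subgroup.card_bot] at hN; omega
    · exact hNtop h'
  have hF7 : Nat.card F = 7 := by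
    change 12 ≡ Nat.card F [MOD 5] at hmod
    rw [Nat.ModEq] at hmod
    omega
  -- a moved point and its five translates
  obtain ⟨m, hm⟩ : ∃ m, m ∉ F := by
    by_contra hall
    push Not at hall
    have := Nat.card_congr (Equiv.subtypeUnivEquiv hall)
    rw [hcardX] at this
    exact hF12 this
  obtain ⟨g, rfl⟩ := hlift m
  obtain ⟨d₀, hd₀, hd₀m⟩ : ∃ d ∈ D, d • (g • o) ≠ g • o := by
    by_contra hc
    push Not at hc
    exact hm ((hFmem _).mpr hc)
  -- `D` is transitive on the moved points
  have hmoved : ∀ (x : G ⧸ N), x ∉ F → ∀ y : G ⧸ N, y ∉ F → ∃ d ∈ D, d • x = y := by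
    intro x hx y hy
    have hMc : Nat.card {z // z ∉ F} = 5 := by
      have := Nat.card_congr (Equiv.sumCompl fun z => z ∈ F)
      rw [Nat.card_sum, hcardX] at this
      change Nat.card F + Nat.card {z // z ∉ F} = 12 at this
      omega
    have hinj : Function.Injective (fun d : D => (⟨(d : G) • x, fun hm' => hx ((hFmem x).mpr
        fun e he => by
          have h1 := (hFmem _).mp hm' ((d : G) * e * (d : G)⁻¹)
            (mul_mem (mul_mem d.2 he) (inv_mem d.2))
          rw [mul_smul, mul_smul, inv_smul_smul] at h1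
          exact MulAction.injective (d : G) h1)⟩ : {z // z ∉ F})) := by
      intro a b hab
      by_contra hne
      apply hx
      rw [hFmem]
      intro e he
      have hab' : ((a⁻¹ * b : D) : G) • x = x := by
        rw [Subgroup.coe_mul, Subgroup.coe_inv, mul_smul, inv_smul_eq_iff]
        exact (congrArg Subtype.val hab).symm
      have hgen : Subgroup.zpowers (a⁻¹ * b) = (⊤ : Subgroup D) :=
        zpowers_eq_top_of_prime_card hD (fun he' => hne (inv_mul_eq_one.mp he'))
      obtain ⟨i, hi⟩ := Subgroup.mem_zpowers_iff.mp (hgen ▸ Subgroup.mem_top (⟨e, he⟩ : D))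
      have hstx : ((a⁻¹ * b : D) : G) ∈ MulAction.stabilizer G x := hab'
      have := Subgroup.zpow_mem _ hstx i
      rw [← Subgroup.coe_zpow, hi] at this
      exact this
    obtain ⟨d, hd⟩ := ((Nat.bijective_iff_injective_and_card _).mpr ⟨hinj, by rw [hMc, hD]⟩).2 ⟨y, hy⟩
    exact ⟨d, d.2, congrArg Subtype.val hd⟩
  -- the two-point stabiliser
  set K := N ⊓ MulAction.stabilizer G (g • o) with hK
  have hKall : ∀ z : G ⧸ N, z ∉ F → ∀ n ∈ K, n • z = z := by
    intro z hz n hn
    obtain ⟨d, hd, rfl⟩ := hmoved _ hm z hz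
    rw [← mul_smul, ← hcent d hd n hn.1, mul_smul, hn.2]
  have hmF : ∀ n ∈ N, ∀ z, z ∉ F → n • z ∉ F := fun n hn z hz h' => hz (by
    simpa using hNF n⁻¹ (inv_mem hn) _ h')
  have hKN : ∀ n ∈ N, ∀ x ∈ K, n * x * n⁻¹ ∈ K := by
    intro n hn x hx
    refine Subgroup.mem_inf.mpr ⟨mul_mem (mul_mem hn hx.1) (inv_mem hn), ?_⟩
    rw [MulAction.mem_stabilizer_iff, mul_smul, mul_smul,
      hKall _ (hmF _ (inv_mem hn) _ hm) x hx, smul_inv_smul]
  -- the conjugated picture at the moved point
  have hgN : g ∉ N := fun hg => hm (((hsto g).mpr hg).symm ▸ hoF)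
  have ho' : g⁻¹ • o ∉ F := by
    intro h'
    -- then the conjugate of `D` lies in `N`, so commutes with `D`, which fixes `g • o`
    apply hd₀m
    rw [hstab]
    have hgdg : ∀ d ∈ D, g * d * g⁻¹ ∈ N := fun d hd => by
      simpa using (hstab g⁻¹ d).mp ((hFmem _).mp h' d hd)
    have hcen : ∀ d ∈ D, (g⁻¹ * d₀ * g) * d = d * (g⁻¹ * d₀ * g) := fun d hd => by
      have e := hcent d₀ hd₀ _ (hgdg d hd)
      calc g⁻¹ * d₀ * g * d = g⁻¹ * (d₀ * (g * d * g⁻¹)) * g := by group
        _ = g⁻¹ * (g * d * g⁻¹ * d₀) * g := by rw [e]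
        _ = d * (g⁻¹ * d₀ * g) := by group
    -- the centraliser of `D` is `N`
    have hCN : Subgroup.centralizer (D : Set G) = N := by
      by_contra hne
      have htop := hover _ (fun n hn => Subgroup.mem_centralizer_iff.mpr fun d hd =>
        hcent d hd n hn) hne
      rcases (Subgroup.Normal.eq_bot_or_eq_top (H := D) (by
        rw [← Subgroup.normalizer_eq_top_iff]
        exact top_le_iff.mp (htop ▸ SmallGroups.Sylow.centralizer_le_normalizer D))) with e | e
      · rw [e, Subgroup.card_bot] at hD; omega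
      · rw [e, Subgroup.card_top, h] at hD; omega
    rw [← hCN, Subgroup.mem_centralizer_iff]
    exact fun d hd => (hcen d hd).symm
  have hK60 : 1 < Nat.card K := by
    by_contra hle
    have hKc : Nat.card K = 1 := le_antisymm (by omega) Nat.card_pos
    have hsub : Nat.card N ≤ 12 * Nat.card K := by
      rw [hK, ← hcardX, ← Nat.card_prod]
      classical
      choose r hr using fun z : {z : G ⧸ N // ∃ n ∈ N, n • (g • o) = z} => z.2
      refine Nat.card_le_card_of_injective (fun n : N => ((n : G) • (g • o),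
        (⟨(r ⟨_, n, n.2, rfl⟩)⁻¹ * n, Subgroup.mem_inf.mpr ⟨mul_mem (inv_mem (hr ⟨_, n, n.2, rfl⟩).1) n.2, by
          rw [MulAction.mem_stabilizer_iff, mul_smul, inv_smul_eq_iff,
            (hr ⟨_, n, n.2, rfl⟩).2]⟩⟩ : (N ⊓ MulAction.stabilizer G (g • o) : Subgroup G)))) ?_
      intro a b hab
      simp only [Prod.mk.injEq, Subtype.mk.injEq] at hab
      have hr' : r ⟨(a : G) • (g • o), a, a.2, rfl⟩ = r ⟨(b : G) • (g • o), b, b.2, rfl⟩ :=
        congrArg r (Subtype.ext hab.1)
      rw [hr'] at hab
      exact Subtype.ext (mul_left_cancel hab.2)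
    rw [hN, hKc] at hsub
    omega
  have hKg : ∀ x ∈ K, g⁻¹ * x * g ∈ K := by
    intro x hx
    have hxN : g⁻¹ * x * g ∈ N := (hstab g x).mp hx.2
    refine Subgroup.mem_inf.mpr ⟨hxN, ?_⟩
    -- `g⁻¹ x g` fixes the moved point `g⁻¹ • o`, hence all moved points
    have hfix1 : (g⁻¹ * x * g) • (g⁻¹ • o) = g⁻¹ • o := by
      rw [mul_smul, mul_smul, smul_inv_smul, (hsto x).mpr hx.1]
    obtain ⟨d, hd, he⟩ := hmoved _ ho' _ hm
    rw [MulAction.mem_stabilizer_iff, ← he, ← mul_smul,
      ← hcent d hd _ hxN, mul_smul, hfix1]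
  have := hnormal K hKN g⁻¹ (fun hg => hgN (inv_mem_iff.mp hg)) (fun x hx => by simpa using hKg x hx)
  rcases this.eq_bot_or_eq_top with e | e
  · rw [e, Subgroup.card_bot] at hK60; omega
  · exact hNtop (top_le_iff.mp (e ▸ inf_le_left))

/-- The normaliser of an intersection of Sylow 5-subgroups would centralise it and have index 12. -/
theorem card_ne_3600 : Nat.card G ≠ 3600 := by
  intro h
  haveI : Fact (Nat.Prime 5) := ⟨by norm_num⟩
  have hG := SmallOrderKills3.not_comm h (by norm_num)
  have hfac : Nat.card G = 5 ^ 2 * 144 := by rw [h]; norm_num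
  have hdiv := SmallGroups.Sylow.card_sylow_mem (p := 5) hfac (by norm_num)
  have hne := SmallGroups.Sylow.card_sylow_ne_one (p := 5) hfac (by norm_num) two_ne_zero (by norm_num)
  have hmod : Nat.card (Sylow 5 G) % 5 ^ 2 ≠ 1 := by
    rw [show ((144 : ℕ).divisors.filter fun d => d % 5 = 1) = {1, 6, 16, 36} by decide +kernel]
      at hdiv
    simp only [Finset.mem_insert, Finset.mem_singleton] at hdiv
    omega
  obtain ⟨P, R, N, hPR, hNdef, hDc, hPN, hRN, htop, m', d, hN, hm', hd, hd5, h5d⟩ :=
    exists_intersection_normalizer hfac (by norm_num) le_rfl hmod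
  have hm'0 : m' ≠ 0 := fun h0 => by simp [h0] at hm'
  have hd6 : 6 ≤ m' := (show 6 ≤ d by omega).trans (Nat.le_of_dvd (Nat.pos_of_ne_zero hm'0) hd)
  have h24 : N.index ≤ 24 := by nlinarith
  have hfact := SmallGroups.Sylow.two_mul_card_dvd_factorial hG htop
  rw [h] at hfact
  have hm6 : m' = 6 ∨ m' = 12 := by
    have hdvd : N.index ∣ 144 := ⟨m', by rw [← hm', mul_comm]⟩
    have hdle := Nat.le_of_dvd (Nat.pos_of_ne_zero hm'0) hd
    generalize N.index = i at h24 hfact hdvd hm'
    interval_cases i <;>
      first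
      | omega
      | (norm_num [Nat.factorial] at hfact; done)
      | (norm_num at hdvd; done)
      | (exfalso
         rcases (show m' = 8 ∨ m' = 9 by omega) with rfl | rfl <;> interval_cases d <;>
           first | omega | norm_num at hd)
  have hcard : ∀ (H : Subgroup G) (S : Sylow 5 G), (S : Subgroup G) ≤ H →
      Nat.card ((S : Subgroup G).subgroupOf H) = 25 := by
    intro H S hS
    rw [Nat.card_congr (Subgroup.subgroupOfEquivOfLe hS).toEquiv,
      SmallGroups.Sylow.card_sylow_eq S hfac (by norm_num)]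
    norm_num
  have h150 : ∀ H : Subgroup G, (P : Subgroup G) ≤ H → (R : Subgroup G) ≤ H →
      Nat.card H ≠ 150 := by
    intro H hP hR hc
    have := BC77.ThreePrime.eq_of_card_150 (N := H) hc _ _ (hcard H P hP) (hcard H R hR)
    exact hPR (Sylow.ext ((inf_eq_left.mpr hP).symm.trans
      ((Subgroup.subgroupOf_inj.mp this).trans (inf_eq_left.mpr hR))))
  rcases hm6 with rfl | rfl
  · exact h150 N hPN hRN (by rw [hN]; norm_num)
  set D := (P : Subgroup G) ⊓ (R : Subgroup G) with hDdef
  have hD : Nat.card D = 5 := by norm_num at hDc; omega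
  have hab : ∀ S : Sylow 5 G, ∀ a ∈ (S : Subgroup G), ∀ b ∈ (S : Subgroup G), a * b = b * a :=
    fun S a ha b hb => Subgroup.mem_centralizer_iff.mp (SmallGroups.Counting.comm_of_card_sq (p := 5)
      (SmallGroups.Sylow.card_sylow_eq S hfac (by norm_num)) hb) a ha
  set C := Subgroup.centralizer (D : Set G) with hCdef
  have hCN : C ≤ N := hNdef ▸ SmallGroups.Sylow.centralizer_le_normalizer D
  have hPC : (P : Subgroup G) ≤ C := fun x hx => Subgroup.mem_centralizer_iff.mpr
    fun y hy => hab P y hy.1 x hx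
  have hRC : (R : Subgroup G) ≤ C := fun x hx => Subgroup.mem_centralizer_iff.mpr
    fun y hy => hab R y hy.2 x hx
  -- `N / C` embeds in the four automorphisms of `D`
  have hidx : (C.subgroupOf N).index ∣ 4 := by
    haveI : IsCyclic D := isCyclic_of_prime_card hD
    have h1 : Nat.card (MulAut D) = 4 := by
      rw [Nat.card_congr (IsCyclic.mulAutMulEquiv D).toEquiv, Nat.card_eq_fintype_card,
        ZMod.card_units_eq_totient, hD]
      rfl
    rw [← h1, hNdef, ← Subgroup.normalizerMonoidHom_ker, Subgroup.index_ker]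
    exact Subgroup.card_subgroup_dvd_card _
  have hCc := (C.subgroupOf N).card_mul_index
  rw [Nat.card_congr (Subgroup.subgroupOfEquivOfLe hCN).toEquiv, hN] at hCc
  have hC300 : Nat.card C = 300 := by
    rcases (show (C.subgroupOf N).index = 1 ∨ (C.subgroupOf N).index = 2 ∨
        (C.subgroupOf N).index = 4 by
      have := Nat.le_of_dvd (by norm_num) hidx
      generalize (C.subgroupOf N).index = i at hidx this
      interval_cases i <;> first | omega | norm_num at hidx) with e | e | e <;> rw [e] at hCc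
    · omega
    · exact absurd (by omega) (h150 C hPC hRC)
    · exfalso
      have h75 : Nat.card C = 5 ^ 2 * 3 := by omega
      have hsub : Subsingleton (Sylow 5 C) := by
        refine (Nat.card_eq_one_iff_unique.mp ?_).1
        have h1 := SmallGroups.Sylow.card_sylow_dvd (p := 5) h75 (by norm_num)
        have h2 := SmallGroups.Sylow.card_sylow_mod (p := 5) (G := C)
        rcases (Nat.dvd_prime Nat.prime_three).mp h1 with h' | h'
        · exact h'
        · rw [h'] at h2; norm_num at h2
      exact hPR (Sylow.subtype_injective (Subsingleton.elim (P.subtype hPC) (R.subtype hRC)))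
  have hCeq : C = N := Subgroup.eq_of_le_of_card_ge hCN (by rw [hC300, hN]; norm_num)
  exact false_of_index_twelve h N D (by omega) hD (inf_le_left.trans hPN) fun d hd n hn =>
    Subgroup.mem_centralizer_iff.mp (hCeq.symm ▸ hn : n ∈ C) d hd

/-- Orders excluded by a prime dividing them once. -/
def liveList : List (ℕ × ℕ) :=
  [(1224, 17), (1232, 7), (1260, 7), (1440, 5), (1560, 3), (1716, 3), (1980, 11), (2016, 7),
    (2080, 5), (2100, 3), (2268, 7), (2464, 7), (2688, 7), (2808, 13), (2880, 5), (2976, 31),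
    (3024, 7), (3120, 13), (3168, 11), (3240, 5), (3432, 3), (3444, 3)]

theorem liveList_spec : (liveList.all fun gp =>
    decide (gp.1 % gp.2 = 0) && decide (gp.1 / gp.2 % gp.2 ≠ 0) && decide (gp.1 / gp.2 ≠ 1) &&
      decide (3 ≤ gp.2) && OrderSieve.isP gp.2 &&
        (PrimeDegrees.live gp.1 gp.2).isEmpty) = true := by decide +kernel

/-- The orders needing an argument of their own. -/
def rest : List ℕ :=
  [1344, 1404, 1512, 1620, 1680, 1800, 2160, 2400, 2448, 2520, 2700, 3360, 3420, 3600]

def handled (n : ℕ) : Bool :=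
  OrdersTo6232.oddFree n || (liveList.map Prod.fst).contains n || rest.contains n ||
    OrderSieve.excluded n

/-- A block of 256 orders. -/
def block (k : ℕ) : Bool := (List.range 256).all fun i => handled (1093 + 256 * k + i)

theorem block_0 : block 0 = true := by decide +kernel
theorem block_1 : block 1 = true := by decide +kernel
theorem block_2 : block 2 = true := by decide +kernel
theorem block_3 : block 3 = true := by decide +kernel
theorem block_4 : block 4 = true := by decide +kernel
theorem block_5 : block 5 = true := by decide +kernel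
theorem block_6 : block 6 = true := by decide +kernel
theorem block_7 : block 7 = true := by decide +kernel
theorem block_8 : block 8 = true := by decide +kernel

theorem last_block : ((List.range 244).all fun i => handled (3397 + i)) = true := by decide +kernel

theorem order_table {n : ℕ} (h1 : 1093 ≤ n) (h2 : n ≤ 3640) : handled n = true := by
  have key : ∀ k, block k = true → ∀ i, i < 256 → handled (1093 + 256 * k + i) = true := by
    intro k hk i hi
    simp only [block, List.all_eq_true, List.mem_range] at hk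
    exact hk i hi
  rcases Nat.lt_or_ge n 3397 with h3 | h3
  · obtain ⟨k, i, hk, hi, rfl⟩ : ∃ k i, k < 9 ∧ i < 256 ∧ n = 1093 + 256 * k + i :=
      ⟨(n - 1093) / 256, (n - 1093) % 256, by omega, Nat.mod_lt _ (by norm_num), by omega⟩
    interval_cases k
    · exact key 0 block_0 i hi
    · exact key 1 block_1 i hi
    · exact key 2 block_2 i hi
    · exact key 3 block_3 i hi
    · exact key 4 block_4 i hi
    · exact key 5 block_5 i hi
    · exact key 6 block_6 i hi
    · exact key 7 block_7 i hi
    · exact key 8 block_8 i hi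
  · have h := List.all_eq_true.mp last_block (n - 3397) (List.mem_range.mpr (by omega))
    rwa [show 3397 + (n - 3397) = n by omega] at h

/-- A non-abelian simple group of order in `(1092, 3640]`. -/
theorem card_mem (hG : ¬ IsMulCommutative G) (h1 : 1092 < Nat.card G) (h2 : Nat.card G ≤ 3640) :
    Nat.card G = 2448 ∨ Nat.card G = 2520 ∨ Nat.card G = 3420 := by
  have h' := order_table (n := Nat.card G) h1 h2
  simp only [handled, OrderSieve.not_excluded hG, OrdersTo6232.not_oddFree hG (by omega),
    Bool.false_or, Bool.or_false, Bool.or_eq_true, List.contains_iff_mem] at h'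
  rcases h' with hl | hr
  · exfalso
    obtain ⟨⟨g, p⟩, hmem, hg⟩ := List.mem_map.mp hl
    have hspec := List.all_eq_true.mp liveList_spec _ hmem
    simp only [Bool.and_eq_true, decide_eq_true_eq] at hspec
    obtain ⟨⟨⟨⟨⟨e1, e2⟩, e3⟩, e4⟩, e5⟩, e6⟩ := hspec
    haveI : Fact p.Prime := ⟨OrderSieve.prime_of_isP e5⟩
    exact PrimeDegrees.false_of_live hG hg.symm (by omega) (Nat.dvd_of_mod_eq_zero e1) e2 e3 e6
  simp only [rest, List.mem_cons, List.not_mem_nil, or_false] at hr
  rcases hr with hr | hr | hr | hr | hr | hr | hr | hr | hr | hr | hr | hr | hr | hr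
  · have := BC77.ThreePrime.card_of_three hG (p := 7) (q := 2) (a := 1) (b := 6) (by norm_num)
      Nat.prime_two (by norm_num) (by norm_num) (by rw [hr]; norm_num)
    omega
  · have := BC77.ThreePrime.card_of_four hG (p := 13) (q := 3) (a := 1) (b := 3) (by norm_num)
      Nat.prime_three (by norm_num) (by norm_num) (by rw [hr]; norm_num)
    omega
  · exact absurd hr card_ne_1512
  · have := BC77.ThreePrime.card_of_four hG (p := 5) (q := 3) (a := 1) (b := 4) (by norm_num)
      Nat.prime_three (by norm_num) (by norm_num) (by rw [hr]; norm_num)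
    omega
  · exact absurd hr card_ne_1680
  · exact absurd hr card_ne_1800
  · exact absurd hr card_ne_2160
  · exact absurd hr (BC77.ThreePrime.card_ne_2400 hG)
  · exact Or.inl hr
  · exact Or.inr (Or.inl hr)
  · have := BC77.ThreePrime.card_of_four hG (p := 5) (q := 3) (a := 2) (b := 3) (by norm_num)
      Nat.prime_three (by norm_num) (by norm_num) (by rw [hr]; norm_num)
    omega
  · exact absurd hr card_ne_3360
  · exact Or.inr (Or.inr hr)
  · exact absurd hr card_ne_3600

end Cfsg.Agent.Lib.SmallSimple.OrdersTo3640
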