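import Cfsg.Prelude.Def_DegreeGraph
import Cfsg.Agent.S0496
import Cfsg.Agent.S0983
import Cfsg.Agent.S0494
import Cfsg.Agent.S0495
import Cfsg.Agent.S0497
import Cfsg.Agent.S0498
import Cfsg.Agent.S0981
import Cfsg.Agent.S1011
import Cfsg.Agent.S1020
import Cfsg.Agent.S1021
import Cfsg.Agent.S4774
import Cfsg.Agent.S4812
import Cfsg.Agent.Lib.Linear.SmallIso.PSL9
import Cfsg.Agent.Lib.SmallSimple.OrdersTo3640
import Cfsg.Agent.Lib.SmallSimple.Degrees

/-!
The simple groups of order less than 6000: orders and the facts about their degrees in use.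
-/

set_option autoImplicit false
set_option linter.style.haveILetI false
set_option linter.unusedSectionVars false

namespace Cfsg.Agent.Lib.SmallSimple.Known

open Cfsg.Agent.Lib.Classif
open Cfsg.Agent.Lib.Classif.PrimeExceptional (deg apply_one_eq natAbs_deg two_le_deg)
open Cfsg.Agent.Lib.Characters.Basic

universe u

/-- The orders. -/
def orders : List ℕ := [60, 168, 360, 504, 660, 1092, 2448, 2520, 3420, 4080, 5616]

variable {S : Type u} [Group S] [Finite S] [IsSimpleGroup S]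

theorem card_mem (hS : ¬ IsMulCommutative S) (h : Nat.card S < 6000) : Nat.card S ∈ orders := by
  simp only [orders, List.mem_cons, List.not_mem_nil, or_false]
  rcases Nat.lt_or_ge 1092 (Nat.card S) with h1 | h1
  · rcases Nat.lt_or_ge 3640 (Nat.card S) with h2 | h2
    · have := S0983.result hS h2 (by omega)
      omega
    · have := OrdersTo3640.card_mem hS h1 h2
      omega
  · have := S0496.result hS h1
    omega

/-- The orders are not those of abelian simple groups. -/
theorem not_comm (h : Nat.card S ∈ orders) : ¬ IsMulCommutative S :=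
  SmallGroups.Sylow.not_comm_of_card fun hp => by
    simp only [orders, List.mem_cons, List.not_mem_nil, or_false] at h
    rcases h with h | h | h | h | h | h | h | h | h | h | h <;> rw [h] at hp <;> norm_num at hp

theorem mem_degreePrimes_of {d p : ℕ} (hp : p.Prime) (hd : d ∈ Cfsg.charDegrees S) (hpd : p ∣ d) :
    p ∈ Cfsg.degreePrimes S := ⟨hp, d, hd, hpd⟩

/-- The odd PSL₂ graph facts. -/
theorem odd_facts {q t : ℕ} [Fact t.Prime] {F : Type} [Field F] [Fintype F] [CharP F t]
    (ht : t ≠ 2) (hF : Fintype.card F = q) (h5 : 5 < q)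
    (e : S ≃* Matrix.ProjectiveSpecialLinearGroup (Fin 2) F) :
    (∀ r : ℕ, r.Prime → r ∣ q * (q ^ 2 - 1) → r ∈ Cfsg.degreePrimes S) ∧
      ∀ r s : ℕ, (Cfsg.degreeGraph S).Adj r s ↔ (r ≠ s ∧ r.Prime ∧ s.Prime ∧ r ∣ q ^ 2 - 1 ∧
        s ∣ q ^ 2 - 1 ∧ (r = 2 ∨ s = 2 ∨ (r ∣ q + 1 ∧ s ∣ q + 1) ∨ (r ∣ q - 1 ∧ s ∣ q - 1))) := by
  obtain ⟨h1, h2⟩ := S4774.result F t ht q hF h5 (S := S) (Or.inl ⟨e⟩)
  exact ⟨fun r hr hd => h1.symm ▸ ⟨hr, hd⟩, h2⟩

/-- The sum of squares when the family exhausts the characters. -/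
theorem sum_sq [Fintype S] [Fintype (Cfsg.IrrCharacter S)] [DecidableEq (Cfsg.IrrCharacter S)] {p e : ℕ} [Fact p.Prime] {P : Sylow p S}
    (D : FirstPowerData.Data P e)
    (hsub : (Finset.univ : Finset (Cfsg.IrrCharacter S)) ⊆ insert (oneChar S) (D.K ∪ D.fam)) :
    1 + (∑ χ ∈ D.K, deg χ ^ 2 + (D.fam.card : ℤ) * deg D.θ ^ 2) = (Nat.card S : ℤ) := by
  rw [← PrimeExceptional.sum_deg_sq (G := S), Finset.Subset.antisymm hsub (Finset.subset_univ _),
    Finset.sum_insert (by simp [D.one_not_mem, D.fam_one]), Finset.sum_union D.fam_disj,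
    PrimeExceptional.deg_oneChar, one_pow,
    Finset.sum_congr (s₁ := D.fam) rfl (g := fun _ => deg D.θ ^ 2) fun θ' hθ' => by
      rw [D.fam_deg θ' hθ'], Finset.sum_const, nsmul_eq_mul]

theorem five_mem_60 (h : Nat.card S = 60) : 5 ∈ Cfsg.degreePrimes S := by
  classical
  haveI : Fact (Nat.Prime 5) := ⟨by norm_num⟩
  by_contra hno
  have hG := SmallOrderKills3.not_comm h (by norm_num)
  obtain ⟨P, n, e, c, hmem, hP, hn, hc, hC, ⟨D⟩⟩ :=
    PrimeDegrees.exists_live hG (p := 5) h (by norm_num) (by norm_num) (by norm_num) (by norm_num)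
  rw [show PrimeDegrees.live 60 5 = [(6, 2)] by decide +kernel, List.mem_singleton, Prod.mk.injEq]
    at hmem
  obtain ⟨rfl, rfl⟩ := hmem
  have hCP := SmallOrderKills4.centralizer_eq P hP (by rw [hC, hc])
  haveI := Fintype.ofFinite S
  haveI := Fintype.ofFinite (Cfsg.IrrCharacter S)
  have hsub : (Finset.univ : Finset (Cfsg.IrrCharacter S)) ⊆ insert (oneChar S) (D.K ∪ D.fam) := by
    intro χ _
    by_contra hne
    simp only [Finset.mem_insert, Finset.mem_union, not_or] at hne
    have hd := PrimeDegrees.dvd_deg_of_other hP hCP D χ hne.1 hne.2.1 hne.2.2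
    exact hno (mem_degreePrimes_of (by norm_num) ⟨χ, rfl⟩
      (natAbs_deg χ ▸ Int.natAbs_dvd_natAbs.mpr hd))
  have hsq := sum_sq D hsub
  rw [h] at hsq
  obtain ⟨χ, hK⟩ := Finset.card_eq_one.mp (show D.K.card = 1 by have := D.card_K; omega)
  have hfam : D.fam.card = 2 := by have := D.fam_card; omega
  have hθ3 : deg D.θ = 3 := by
    have h0 : 0 ≤ deg D.θ := by rw [deg]; exact Int.natCast_nonneg _
    by_contra hne
    exact PrimeDegrees.false_of_degGen (SmallGroups.Sylow.commutator_eq_top hG) hP D h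
      (fun _ => true) (fun _ => true) (fun k => decide (k ≠ 3))
      (show χ ∈ D.K by rw [hK]; simp) rfl (fun _ _ _ => rfl) (by simp only [decide_eq_true_eq]; omega)
      (by decide +kernel)
  rw [hK, Finset.sum_singleton, hfam, hθ3] at hsq
  norm_num at hsq
  have h0 : 0 ≤ deg χ := by rw [deg]; exact Int.natCast_nonneg _
  have : deg χ ≤ 7 := by nlinarith
  interval_cases deg χ <;> norm_num at hsq

theorem mem_2520 (h : Nat.card S = 2520) :
    7 ∈ Cfsg.degreePrimes S ∧ 5 ∈ Cfsg.degreePrimes S := by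
  classical
  haveI : Fact (Nat.Prime 5) := ⟨by norm_num⟩
  haveI : Fact (Nat.Prime 7) := ⟨by norm_num⟩
  have hG := SmallOrderKills3.not_comm h (by norm_num)
  have hperf := SmallGroups.Sylow.commutator_eq_top hG
  obtain ⟨P, n, e, c, hmem, hP, hn, hc, hC, ⟨D⟩⟩ :=
    PrimeDegrees.exists_live hG (p := 7) h (by norm_num) (by norm_num) (by norm_num) (by norm_num)
  rw [show PrimeDegrees.live 2520 7 = [(120, 3)] by decide +kernel, List.mem_singleton,
    Prod.mk.injEq] at hmem
  obtain ⟨rfl, rfl⟩ := hmem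
  have hCP := SmallOrderKills4.centralizer_eq P hP (by rw [hC, hc])
  obtain ⟨Q, n', e', c', hmem', hQ, hn', hc', hC', ⟨E⟩⟩ :=
    PrimeDegrees.exists_live hG (p := 5) h (by norm_num) (by norm_num) (by norm_num) (by norm_num)
  rw [show PrimeDegrees.live 2520 5 = [(126, 4)] by decide +kernel, List.mem_singleton,
    Prod.mk.injEq] at hmem'
  obtain ⟨rfl, rfl⟩ := hmem'
  have hCQ := SmallOrderKills4.centralizer_eq Q hQ (by rw [hC', hc'])
  haveI := Fintype.ofFinite S
  haveI := Fintype.ofFinite (Cfsg.IrrCharacter S)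
  -- the family of 7 cannot be all the nontrivial characters
  have hnot : ¬ (Finset.univ : Finset (Cfsg.IrrCharacter S)) ⊆
      insert (oneChar S) (D.K ∪ D.fam) := by
    intro hsub
    have hsq := sum_sq D hsub
    obtain ⟨a, b, hab, hK⟩ := Finset.card_eq_two.mp (show D.K.card = 2 by
      have := D.card_K; omega)
    have hfam : D.fam.card = 2 := by have := D.fam_card; omega
    have hdeq := D.degree_eq
    rw [hK, Finset.sum_pair hab] at hdeq
    rw [h, hfam, hK, Finset.sum_pair hab] at hsq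
    have haK : a ∈ D.K := by rw [hK]; simp
    have hbK : b ∈ D.K := by rw [hK]; simp
    have hmemL : ∀ χ ∈ D.K, D.a χ * deg χ ∈ ([-20, -6, 8, 15, 36] : List ℤ) := by
      intro χ hχ
      obtain ⟨h1, h2, h3, h4⟩ := FirstPowerKills.signed_facts hperf hP D (χ := χ) hχ
      rw [h] at h3
      have hb : (D.a χ * deg χ) ^ 2 ≤ 2520 := by
        rw [h4]
        have hsum : deg χ ^ 2 ≤ deg a ^ 2 + deg b ^ 2 := by
          rw [hK, Finset.mem_insert, Finset.mem_singleton] at hχ
          rcases hχ with e1 | e1 <;> rw [e1] <;> nlinarith [sq_nonneg (deg a), sq_nonneg (deg b)]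
        have h5 : (0 : ℤ) ≤ deg D.θ ^ 2 := sq_nonneg _
        push_cast at hsq
        linarith
      have hnat : (D.a χ * deg χ).natAbs ≤ 50 := by
        have : (D.a χ * deg χ).natAbs ^ 2 ≤ 2520 := by
          have h' : ((D.a χ * deg χ).natAbs : ℤ) ^ 2 ≤ 2520 := by rwa [Int.natAbs_sq]
          exact_mod_cast h'
        nlinarith
      generalize D.a χ * deg χ = x at *
      have hx1 : -50 ≤ x := by omega
      have hx2 : x ≤ 50 := by omega
      obtain ⟨k, hk⟩ := h1
      interval_cases x <;> first | omega | (norm_num at h3; done) | simp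
    have hA := hmemL a haK
    have hB := hmemL b hbK
    obtain ⟨-, -, -, ha4⟩ := FirstPowerKills.signed_facts hperf hP D (χ := a) haK
    obtain ⟨-, -, -, hb4⟩ := FirstPowerKills.signed_facts hperf hP D (χ := b) hbK
    have hδ : (D.δ * deg D.θ) ^ 2 = deg D.θ ^ 2 := by
      rcases D.δ_unit with hd | hd <;> rw [hd] <;> ring
    rw [← hdeq] at hδ
    rw [← ha4, ← hb4, ← hδ] at hsq
    push_cast at hsq
    generalize D.a a * deg a = x at hA hsq
    generalize D.a b * deg b = y at hB hsq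
    have key : ∀ x ∈ ([-20, -6, 8, 15, 36] : List ℤ), ∀ y ∈ ([-20, -6, 8, 15, 36] : List ℤ),
        1 + (x ^ 2 + y ^ 2 + 2 * (1 + (x + y)) ^ 2) ≠ 2520 := by decide +kernel
    exact key x hA y hB hsq
  refine ⟨?_, ?_⟩
  · by_contra hno
    refine hnot fun χ _ => ?_
    by_contra hne
    simp only [Finset.mem_insert, Finset.mem_union, not_or] at hne
    have hd := PrimeDegrees.dvd_deg_of_other hP hCP D χ hne.1 hne.2.1 hne.2.2
    exact hno (mem_degreePrimes_of (by norm_num) ⟨χ, rfl⟩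
      (natAbs_deg χ ▸ Int.natAbs_dvd_natAbs.mpr hd))
  · by_contra hno
    refine hnot ?_
    have hall : ∀ χ : Cfsg.IrrCharacter S, χ ≠ oneChar S → χ ∈ E.K ∪ E.fam := by
      intro χ hne
      by_contra hm
      simp only [Finset.mem_union, not_or] at hm
      have hd := PrimeDegrees.dvd_deg_of_other hQ hCQ E χ hne hm.1 hm.2
      exact hno (mem_degreePrimes_of (by norm_num) ⟨χ, rfl⟩
        (natAbs_deg χ ▸ Int.natAbs_dvd_natAbs.mpr hd))
    have hsub : D.K ∪ D.fam ⊆ E.K ∪ E.fam := by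
      intro χ hχ
      refine hall χ fun he => ?_
      rcases Finset.mem_union.mp hχ with hm | hm
      · exact D.one_not_mem (he ▸ hm)
      · exact D.fam_one (he ▸ hm)
    have heq : D.K ∪ D.fam = E.K ∪ E.fam := by
      refine Finset.eq_of_subset_of_card_le hsub ?_
      rw [Finset.card_union_of_disjoint D.fam_disj, Finset.card_union_of_disjoint E.fam_disj]
      have := D.card_K; have := D.fam_card; have := E.card_K; have := E.fam_card
      omega
    intro χ _
    rw [Finset.mem_insert, heq]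
    exact (em (χ = oneChar S)).imp_right (hall χ)

theorem mem_5616 (h : Nat.card S = 5616) :
    13 ∈ Cfsg.degreePrimes S ∧ 3 ∈ Cfsg.degreePrimes S := by
  classical
  haveI : Fact (Nat.Prime 13) := ⟨by norm_num⟩
  have hG := SmallOrderKills3.not_comm h (by norm_num)
  have hperf := SmallGroups.Sylow.commutator_eq_top hG
  obtain ⟨P, n, e, c, hmem, hP, hn, hc, hC, ⟨D⟩⟩ :=
    PrimeDegrees.exists_live hG (p := 13) h (by norm_num) (by norm_num) (by norm_num) (by norm_num)
  rw [show PrimeDegrees.live 5616 13 = [(144, 3)] by decide +kernel, List.mem_singleton,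
    Prod.mk.injEq] at hmem
  obtain ⟨rfl, rfl⟩ := hmem
  have hCP := SmallOrderKills4.centralizer_eq P hP (by rw [hC, hc])
  obtain ⟨a, b, hab, hK⟩ := Finset.card_eq_two.mp (show D.K.card = 2 by have := D.card_K; omega)
  have haK : a ∈ D.K := by rw [hK]; simp
  have hbK : b ∈ D.K := by rw [hK]; simp
  refine ⟨?_, ?_⟩
  swap
  · by_contra hno
    exact PrimeDegrees.false_of_degGen hperf hP D h (fun k => decide (k % 3 ≠ 0)) (fun _ => true)
      (fun _ => true) haK (by
        simp only [decide_eq_true_eq]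
        intro h3
        exact hno (mem_degreePrimes_of Nat.prime_three ⟨a, rfl⟩
          (natAbs_deg a ▸ Nat.dvd_of_mod_eq_zero h3))) (fun _ _ _ => rfl) rfl (by decide +kernel)
  by_contra hno
  have hsum : ∑ χ ∈ D.K, deg χ ^ 2 = deg a ^ 2 + deg b ^ 2 := by
    rw [hK]
    exact Finset.sum_pair hab
  haveI := Fintype.ofFinite S
  haveI := Fintype.ofFinite (Cfsg.IrrCharacter S)
  have hsub : (Finset.univ : Finset (Cfsg.IrrCharacter S)) ⊆ insert (oneChar S) (D.K ∪ D.fam) := by
    intro χ _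
    by_contra hne
    simp only [Finset.mem_insert, Finset.mem_union, not_or] at hne
    have hd := PrimeDegrees.dvd_deg_of_other hP hCP D χ hne.1 hne.2.1 hne.2.2
    exact hno (mem_degreePrimes_of (by norm_num) ⟨χ, rfl⟩
      (natAbs_deg χ ▸ Int.natAbs_dvd_natAbs.mpr hd))
  have hsq := sum_sq D hsub
  have hfam : D.fam.card = 4 := by have := D.fam_card; omega
  rw [h, hfam, hsum] at hsq
  push_cast at hsq
  -- two squares cannot be three modulo four
  have key : ∀ x y : ℤ, (x ^ 2 + y ^ 2) % 4 ≠ 3 := by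
    intro x y
    rcases Int.even_or_odd x with ⟨i, rfl⟩ | ⟨i, rfl⟩ <;>
      rcases Int.even_or_odd y with ⟨j, rfl⟩ | ⟨j, rfl⟩ <;> ring_nf <;> omega
  have := key (deg a) (deg b)
  omega

/-- The primes used, all of which divide degrees. -/
theorem mem_degreePrimes {n p : ℕ} (h : Nat.card S = n)
    (hmem : (n, p) ∈ [(60, 5), (168, 7), (168, 2), (360, 5), (504, 7), (504, 2), (660, 11),
      (1092, 13), (2448, 17), (2520, 7), (2520, 5), (3420, 19), (4080, 17), (5616, 13), (5616, 3)]) :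
    p ∈ Cfsg.degreePrimes S := by
  simp only [List.mem_cons, Prod.mk.injEq, List.not_mem_nil, or_false] at hmem
  rcases hmem with ⟨rfl, rfl⟩ | ⟨rfl, rfl⟩ | ⟨rfl, rfl⟩ | ⟨rfl, rfl⟩ | ⟨rfl, rfl⟩ | ⟨rfl, rfl⟩ |
    ⟨rfl, rfl⟩ | ⟨rfl, rfl⟩ | ⟨rfl, rfl⟩ | ⟨rfl, rfl⟩ | ⟨rfl, rfl⟩ | ⟨rfl, rfl⟩ | ⟨rfl, rfl⟩ |
    ⟨rfl, rfl⟩ | ⟨rfl, rfl⟩
  · exact five_mem_60 h
  · haveI : Fact (Nat.Prime 7) := ⟨by norm_num⟩
    obtain ⟨e⟩ := S0495.result h (F := ZMod 7) (ZMod.card 7)
    exact (odd_facts (q := 7) (t := 7) (by norm_num) (ZMod.card 7) (by norm_num) e).1 _ (by norm_num) (by norm_num)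
  · haveI : Fact (Nat.Prime 7) := ⟨by norm_num⟩
    obtain ⟨e⟩ := S0495.result h (F := ZMod 7) (ZMod.card 7)
    exact (odd_facts (q := 7) (t := 7) (by norm_num) (ZMod.card 7) (by norm_num) e).1 _ (by norm_num) (by norm_num)
  · haveI : Fact (Nat.Prime 3) := ⟨Nat.prime_three⟩
    letI := Fintype.ofFinite (GaloisField 3 2)
    have hF : Fintype.card (GaloisField 3 2) = 9 := by
      rw [← Nat.card_eq_fintype_card, GaloisField.card 3 2 (by norm_num)]; norm_num
    obtain ⟨e₁⟩ := S0497.result h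
    obtain ⟨e₂⟩ := Linear.SmallIso.nonempty_psl_two_nine hF
    exact (odd_facts (q := 9) (t := 3) (by norm_num) hF (by norm_num) (e₁.trans e₂.symm)).1 _
      (by norm_num) (by norm_num)
  all_goals try exact (mem_2520 h).1
  all_goals try exact (mem_2520 h).2
  all_goals try exact (mem_5616 h).1
  all_goals try exact (mem_5616 h).2
  · haveI : Fact (Nat.Prime 2) := ⟨Nat.prime_two⟩
    letI := Fintype.ofFinite (GaloisField 2 3)
    have hF : Fintype.card (GaloisField 2 3) = 8 := by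
      rw [← Nat.card_eq_fintype_card, GaloisField.card 2 3 (by norm_num)]; norm_num
    obtain ⟨e⟩ := S1011.result h hF
    rw [(S4812.result (GaloisField 2 3) 8 hF (by norm_num) (S := S) (Or.inl ⟨e⟩)).1]
    exact ⟨by norm_num, by norm_num⟩
  · haveI : Fact (Nat.Prime 2) := ⟨Nat.prime_two⟩
    letI := Fintype.ofFinite (GaloisField 2 3)
    have hF : Fintype.card (GaloisField 2 3) = 8 := by
      rw [← Nat.card_eq_fintype_card, GaloisField.card 2 3 (by norm_num)]; norm_num
    obtain ⟨e⟩ := S1011.result h hF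
    rw [(S4812.result (GaloisField 2 3) 8 hF (by norm_num) (S := S) (Or.inl ⟨e⟩)).1]
    exact ⟨by norm_num, by norm_num⟩
  · haveI : Fact (Nat.Prime 11) := ⟨by norm_num⟩
    obtain ⟨e⟩ := S0498.result 11 (Or.inl rfl) (by rw [h]; norm_num) (G := S) (F := ZMod 11) (ZMod.card 11)
    exact (odd_facts (q := 11) (t := 11) (by norm_num) (ZMod.card 11) (by norm_num) e).1 _ (by norm_num) (by norm_num)
  · haveI : Fact (Nat.Prime 13) := ⟨by norm_num⟩
    obtain ⟨e⟩ := S0498.result 13 (Or.inr rfl) (by rw [h]; norm_num) (G := S) (F := ZMod 13) (ZMod.card 13)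
    exact (odd_facts (q := 13) (t := 13) (by norm_num) (ZMod.card 13) (by norm_num) e).1 _ (by norm_num) (by norm_num)
  · haveI : Fact (Nat.Prime 17) := ⟨by norm_num⟩
    obtain ⟨e⟩ := S1020.result h (F := ZMod 17) (ZMod.card 17)
    exact (odd_facts (q := 17) (t := 17) (by norm_num) (ZMod.card 17) (by norm_num) e).1 _ (by norm_num) (by norm_num)
  · haveI : Fact (Nat.Prime 19) := ⟨by norm_num⟩
    obtain ⟨e⟩ := S1021.result h (F := ZMod 19) (ZMod.card 19)
    exact (odd_facts (q := 19) (t := 19) (by norm_num) (ZMod.card 19) (by norm_num) e).1 _ (by norm_num) (by norm_num)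
  · haveI : Fact (Nat.Prime 2) := ⟨Nat.prime_two⟩
    letI := Fintype.ofFinite (GaloisField 2 4)
    have hF : Fintype.card (GaloisField 2 4) = 16 := by
      rw [← Nat.card_eq_fintype_card, GaloisField.card 2 4 (by norm_num)]; norm_num
    obtain ⟨e⟩ := S0981.result h hF
    rw [(S4812.result (GaloisField 2 4) 16 hF (by norm_num) (S := S) (Or.inl ⟨e⟩)).1]
    exact ⟨by norm_num, by norm_num⟩

/-- In order 360 the graph has the edge `2 - 5` and not `2 - 3`. -/
theorem adj_360 (h : Nat.card S = 360) :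
    (Cfsg.degreeGraph S).Adj 2 5 ∧ ¬ (Cfsg.degreeGraph S).Adj 2 3 := by
  haveI : Fact (Nat.Prime 3) := ⟨Nat.prime_three⟩
  letI := Fintype.ofFinite (GaloisField 3 2)
  have hF : Fintype.card (GaloisField 3 2) = 9 := by
    rw [← Nat.card_eq_fintype_card, GaloisField.card 3 2 (by norm_num)]; norm_num
  obtain ⟨e₁⟩ := S0497.result h
  obtain ⟨e₂⟩ := Linear.SmallIso.nonempty_psl_two_nine hF
  obtain ⟨-, hadj⟩ := odd_facts (q := 9) (t := 3) (by norm_num) hF (by norm_num) (e₁.trans e₂.symm)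
  rw [hadj, hadj]
  norm_num

/-- In order 504 the graph has no edge `2 - 3`. -/
theorem adj_504 (h : Nat.card S = 504) : ¬ (Cfsg.degreeGraph S).Adj 2 3 := by
  haveI : Fact (Nat.Prime 2) := ⟨Nat.prime_two⟩
  letI := Fintype.ofFinite (GaloisField 2 3)
  have hF : Fintype.card (GaloisField 2 3) = 8 := by
    rw [← Nat.card_eq_fintype_card, GaloisField.card 2 3 (by norm_num)]; norm_num
  obtain ⟨e⟩ := S1011.result h hF
  rw [(S4812.result (GaloisField 2 3) 8 hF (by norm_num) (S := S) (Or.inl ⟨e⟩)).2]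
  norm_num

/-- A simple group of order 60 has a degree divisible by 3. -/
theorem three_dvd_60 (h : Nat.card S = 60) : ∃ d ∈ Cfsg.charDegrees S, 3 ∣ d := by
  classical
  haveI : Fact (Nat.Prime 5) := ⟨by norm_num⟩
  have hG := SmallOrderKills3.not_comm h (by norm_num)
  obtain ⟨P, n, e, c, hmem, hP, hn, hc, hC, ⟨D⟩⟩ :=
    PrimeDegrees.exists_live hG (p := 5) h (by norm_num) (by norm_num) (by norm_num) (by norm_num)
  rw [show PrimeDegrees.live 60 5 = [(6, 2)] by decide +kernel, List.mem_singleton, Prod.mk.injEq]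
    at hmem
  obtain ⟨rfl, rfl⟩ := hmem
  obtain ⟨χ, hχ⟩ : D.K.Nonempty := Finset.card_pos.mp (by have := D.card_K; omega)
  refine ⟨_, ⟨D.θ, rfl⟩, ?_⟩
  by_contra h3
  exact PrimeDegrees.false_of_degGen (SmallGroups.Sylow.commutator_eq_top hG) hP D h
    (fun _ => true) (fun _ => true) (fun k => decide (k ≠ 3)) hχ rfl (fun _ _ _ => rfl)
    (by simp only [decide_eq_true_eq]; intro he; exact h3 (by rw [natAbs_deg] at he; rw [he]))
    (by decide +kernel)

/-- A simple group of order 168 has a degree divisible by 6. -/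
theorem six_dvd_168 (h : Nat.card S = 168) : ∃ d ∈ Cfsg.charDegrees S, 6 ∣ d := by
  classical
  haveI : Fact (Nat.Prime 7) := ⟨by norm_num⟩
  have hG := SmallOrderKills3.not_comm h (by norm_num)
  obtain ⟨P, n, e, c, hmem, hP, hn, hc, hC, ⟨D⟩⟩ :=
    PrimeDegrees.exists_live hG (p := 7) h (by norm_num) (by norm_num) (by norm_num) (by norm_num)
  rw [show PrimeDegrees.live 168 7 = [(8, 3)] by decide +kernel, List.mem_singleton, Prod.mk.injEq]
    at hmem
  obtain ⟨rfl, rfl⟩ := hmem
  by_contra hno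
  push Not at hno
  have hok : ∀ χ : Cfsg.IrrCharacter S, decide ((deg χ).natAbs % 6 ≠ 0) = true := fun χ => by
    simp only [decide_eq_true_eq, natAbs_deg]
    exact fun h6 => hno _ ⟨χ, rfl⟩ (Nat.dvd_of_mod_eq_zero h6)
  obtain ⟨χ, hχ⟩ : D.K.Nonempty := Finset.card_pos.mp (by have := D.card_K; omega)
  exact PrimeDegrees.false_of_degGen (SmallGroups.Sylow.commutator_eq_top hG) hP D h
    (fun k => decide (k % 6 ≠ 0)) (fun k => decide (k % 6 ≠ 0)) (fun k => decide (k % 6 ≠ 0)) hχ
    (hok χ) (fun χ _ _ => hok χ) (hok _) (by decide +kernel)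

end Cfsg.Agent.Lib.SmallSimple.Known
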