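import Cfsg.Agent.Lib.Classif.SimpleComplement
import Cfsg.Agent.Lib.SmallGroups.Counting
import Mathlib

/-!
An element of prime order acting on `r`-groups too small to admit it, and a subgroup of prime order
acting regularly on all but one point of a faithful action.
-/

set_option autoImplicit false
set_option linter.style.haveILetI false
set_option linter.unusedSectionVars false

namespace Cfsg.Agent.Lib.SmallSimple.CoprimeAct

open Cfsg.Agent.Lib.SmallGroups

variable {G : Type*} [Group G] [Finite G]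

/-- The elements of `Q` centralised by `x`. -/
def fixIn (Q : Subgroup G) (x : G) : Subgroup G := Q ⊓ Subgroup.centralizer ({x} : Set G)

/-- An element of order `p` normalising a `q`-group fixes a subgroup whose order is congruent. -/
theorem fixIn_card {p q k : ℕ} [Fact p.Prime] (hq : q.Prime) (hpq : p ≠ q) {x : G}
    (hx : orderOf x = p) (Q : Subgroup G) (hQ : Nat.card Q = q ^ k)
    (hN : x ∈ Subgroup.normalizer (Q : Set G)) :
    ∃ c ≤ k, Nat.card (fixIn Q x) = q ^ c ∧ (c < k → p ∣ q ^ (k - c) - 1) := by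
  classical
  obtain ⟨c, hck, hc⟩ := (Nat.dvd_prime_pow hq).mp
    (hQ ▸ Subgroup.card_dvd_of_le (inf_le_left : fixIn Q x ≤ Q))
  refine ⟨c, hck, hc, fun hlt => ?_⟩
  let Z := Subgroup.zpowers x
  have hZN : Z ≤ Subgroup.normalizer (Q : Set G) := Subgroup.zpowers_le.mpr hN
  letI : MulAction Z Q :=
    { smul := fun z y => ⟨(z : G) * y * (z : G)⁻¹,
        (Subgroup.mem_normalizer_iff.mp (hZN z.2) y).mp y.2⟩
      one_smul := fun y => Subtype.ext (by
        show ((1 : Z) : G) * y * ((1 : Z) : G)⁻¹ = y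
        simp)
      mul_smul := fun a b y => Subtype.ext (by
        show ((a * b : Z) : G) * y * ((a * b : Z) : G)⁻¹ =
          (a : G) * ((b : G) * y * (b : G)⁻¹) * (a : G)⁻¹
        simp [mul_assoc]) }
  have hp : IsPGroup p Z := IsPGroup.of_card (n := 1) (by rw [Nat.card_zpowers, hx, pow_one])
  have hmod := hp.card_modEq_card_fixedPoints Q
  have hfix : Nat.card (MulAction.fixedPoints Z Q) = Nat.card (fixIn Q x) := by
    refine Nat.card_congr
      { toFun := fun y => ⟨y.1.1, y.1.2, ?_⟩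
        invFun := fun y => ⟨⟨y.1, y.2.1⟩, fun z => Subtype.ext ?_⟩
        left_inv := fun _ => rfl
        right_inv := fun _ => rfl }
    · have := congrArg Subtype.val (y.2 ⟨x, Subgroup.mem_zpowers x⟩)
      change x * (y.1 : G) * x⁻¹ = y.1 at this
      exact Subgroup.mem_centralizer_singleton_iff.mpr (mul_inv_eq_iff_eq_mul.mp this).symm
    · show (z : G) * y.1 * (z : G)⁻¹ = y.1
      obtain ⟨i, hi⟩ := Subgroup.mem_zpowers_iff.mp z.2
      rw [← hi, mul_inv_eq_iff_eq_mul]
      exact ((Commute.symm (Subgroup.mem_centralizer_singleton_iff.mp y.2.2)).zpow_left i).eq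
  rw [hQ, hfix, show Nat.card (fixIn Q x) = q ^ c from hc] at hmod
  have hsplit : q ^ k - q ^ c = q ^ c * (q ^ (k - c) - 1) := by
    rw [Nat.mul_sub, ← pow_add, Nat.add_sub_cancel' hck, mul_one]
  have hle : q ^ c ≤ q ^ k := Nat.pow_le_pow_right hq.pos hck
  have hd : p ∣ q ^ c * (q ^ (k - c) - 1) := hsplit ▸ (Nat.modEq_iff_dvd' hle).mp hmod.symm
  exact (Nat.Coprime.pow_right c ((Nat.coprime_primes Fact.out hq).mpr hpq)).dvd_of_dvd_mul_left hd

/-- No prime-order automorphism when `p ∤ q ^ j - 1` for all `j ≤ k`. -/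
theorem centralizes {p q k : ℕ} [Fact p.Prime] (hq : q.Prime) (hpq : p ≠ q) {x : G}
    (hx : orderOf x = p) (Q : Subgroup G) (hQ : Nat.card Q = q ^ k)
    (hN : x ∈ Subgroup.normalizer (Q : Set G))
    (hk : ∀ j, 1 ≤ j → j ≤ k → ¬ p ∣ q ^ j - 1) : ∀ y ∈ Q, y * x = x * y := by
  obtain ⟨c, hck, hc, hd⟩ := fixIn_card hq hpq hx Q hQ hN
  have hck' : c = k := le_antisymm hck (not_lt.mp fun hlt => hk (k - c) (by omega) (by omega) (hd hlt))
  have heq : fixIn Q x = Q := Subgroup.eq_of_le_of_card_ge inf_le_left (by rw [hQ, hc, hck'])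
  intro y hy
  exact Subgroup.mem_centralizer_singleton_iff.mp (heq.symm ▸ hy : y ∈ fixIn Q x).2

/-- With only the full exponent possible, a group not centralised is abelian. -/
theorem centralizes_or_comm {p q k : ℕ} [Fact p.Prime] (hq : q.Prime) (hpq : p ≠ q) {x : G}
    (hx : orderOf x = p) (Q : Subgroup G) (hQ : Nat.card Q = q ^ k)
    (hN : x ∈ Subgroup.normalizer (Q : Set G))
    (hk : ∀ j, 1 ≤ j → j < k → ¬ p ∣ q ^ j - 1) :
    (∀ y ∈ Q, y * x = x * y) ∨ (∀ a ∈ Q, ∀ b ∈ Q, a * b = b * a) := by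
  classical
  obtain ⟨c, hck, hc, hd⟩ := fixIn_card hq hpq hx Q hQ hN
  rcases Nat.eq_zero_or_pos c with hc0 | hc0
  swap
  · have hck' : c = k :=
      le_antisymm hck (not_lt.mp fun hlt => hk (k - c) (by omega) (by omega) (hd hlt))
    have heq : fixIn Q x = Q := Subgroup.eq_of_le_of_card_ge inf_le_left (by rw [hQ, hc, hck'])
    exact Or.inl fun y hy =>
      Subgroup.mem_centralizer_singleton_iff.mp (heq.symm ▸ hy : y ∈ fixIn Q x).2
  rw [hc0, pow_zero] at hc
  rcases Nat.eq_zero_or_pos k with hk0 | hk0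
  · rw [hk0, pow_zero] at hQ
    rw [Subgroup.eq_bot_of_card_eq Q hQ]
    exact Or.inl fun y hy => by rw [Subgroup.mem_bot.mp hy, one_mul, mul_one]
  right
  haveI := Fact.mk hq
  set Z := (Subgroup.center Q).map Q.subtype with hZdef
  have hZQ : Z ≤ Q := Subgroup.map_subtype_le _
  have hZN : x ∈ Subgroup.normalizer (Z : Set G) := by
    refine Subgroup.mem_normalizer_fintype ?_
    rintro _ ⟨z, hz, rfl⟩
    have hmem : ∀ w : Q, x⁻¹ * (w : G) * x ∈ Q := fun w => by
      simpa using (Subgroup.mem_normalizer_iff.mp (inv_mem hN) w).mp w.2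
    refine ⟨⟨x * z * x⁻¹, (Subgroup.mem_normalizer_iff.mp hN _).mp z.2⟩,
      Subgroup.mem_center_iff.mpr fun w => Subtype.ext ?_, rfl⟩
    have h1 : x⁻¹ * (w : G) * x * z = z * (x⁻¹ * (w : G) * x) :=
      congrArg Subtype.val (Subgroup.mem_center_iff.mp hz ⟨_, hmem w⟩)
    show (w : G) * (x * z * x⁻¹) = x * z * x⁻¹ * w
    calc (w : G) * (x * z * x⁻¹) = x * (x⁻¹ * (w : G) * x * z) * x⁻¹ := by group
      _ = x * z * x⁻¹ * w := by rw [h1]; group
  have hQp : IsPGroup q Q := IsPGroup.of_card (n := k) hQ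
  obtain ⟨d, hdk, hdc⟩ := (Nat.dvd_prime_pow hq).mp (hQ ▸ Subgroup.card_dvd_of_le hZQ)
  have hd1 : d ≠ 0 := fun hd0 => by
    haveI : Nontrivial Q := Finite.one_lt_card_iff_nontrivial.mp (by
      rw [hQ]; exact Nat.one_lt_pow hk0.ne' hq.one_lt)
    haveI := hQp.center_nontrivial
    have h1 : 1 < Nat.card (Subgroup.center Q) := Finite.one_lt_card
    rw [hd0, pow_zero, hZdef, Subgroup.card_map_of_injective Q.subtype_injective] at hdc
    omega
  by_cases hdk' : d = k
  · have htop : Subgroup.center Q = ⊤ := Subgroup.eq_top_of_card_eq _ (by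
      rw [hQ, ← hdk', ← hdc, hZdef, Subgroup.card_map_of_injective Q.subtype_injective])
    intro a ha b hb
    exact congrArg Subtype.val (Subgroup.mem_center_iff.mp
      (show (⟨b, hb⟩ : Q) ∈ Subgroup.center Q by rw [htop]; trivial) ⟨a, ha⟩)
  · exfalso
    have hall := centralizes hq hpq hx Z hdc hZN fun j hj1 hj => hk j hj1 (by omega)
    have hle : Z ≤ fixIn Q x := fun y hy =>
      ⟨hZQ hy, Subgroup.mem_centralizer_singleton_iff.mpr (hall y hy)⟩
    have := Subgroup.card_le_of_le hle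
    rw [hdc, hc] at this
    exact absurd this (not_le.mpr (Nat.one_lt_pow hd1 hq.one_lt))

/-- In a faithful action on `p + 1` points, a subgroup of order `p` is its own centraliser. -/
theorem centralizer_eq_of_faithful {α : Type*} [Finite α] [MulAction G α] [FaithfulSMul G α]
    {p : ℕ} [Fact p.Prime] (hα : Nat.card α = p + 1) (P : Subgroup G) (hP : Nat.card P = p) :
    Subgroup.centralizer (P : Set G) = P := by
  classical
  have hp : p.Prime := Fact.out
  haveI := isCyclic_of_prime_card hP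
  obtain ⟨⟨x, hxP⟩, hgen⟩ := IsCyclic.exists_generator (α := P)
  have hxo : orderOf x = p := by
    rw [← hP, ← Subgroup.orderOf_mk x hxP]
    exact orderOf_eq_card_of_forall_mem_zpowers hgen
  -- the orbits of `x` have one or `p` points, and there is a point moved
  obtain ⟨a, ha⟩ : ∃ a : α, x • a ≠ a := by
    by_contra hc
    push Not at hc
    have h1 : x = 1 := FaithfulSMul.eq_of_smul_eq_smul (α := α) fun a => by rw [hc a, one_smul]
    rw [h1, orderOf_one] at hxo
    exact hp.ne_one hxo.symm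
  have hstab : ∀ i : ℕ, x ^ i • a = a → p ∣ i := by
    intro i hi
    by_contra hd
    apply ha
    obtain ⟨j, hj⟩ := Nat.exists_mul_mod_eq_one_of_coprime
      ((hp.coprime_iff_not_dvd.mpr hd).symm) hp.one_lt
    have hmem : x ^ i ∈ MulAction.stabilizer G a := hi
    have h2 := pow_mem hmem j
    rw [← pow_mul, ← Nat.mod_add_div (i * j) p, hj.2, pow_add, pow_one, pow_mul,
      show x ^ p = 1 by rw [← hxo, pow_orderOf_eq_one], one_pow, mul_one] at h2
    exact h2
  have hinj : Function.Injective (fun i : Fin p => x ^ (i : ℕ) • a) := by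
    intro i j hij
    simp only at hij
    wlog hle : (i : ℕ) ≤ j generalizing i j with H
    · exact (H hij.symm (le_of_not_ge hle)).symm
    have h1 : x ^ ((j : ℕ) - i) • a = a := by
      refine MulAction.injective (x ^ (i : ℕ)) ?_
      show x ^ (i : ℕ) • x ^ ((j : ℕ) - i) • a = x ^ (i : ℕ) • a
      rw [← mul_smul, ← pow_add, Nat.add_sub_cancel' hle, hij]
    have h2 := Nat.eq_zero_of_dvd_of_lt (hstab _ h1) (by omega)
    exact Fin.ext (by omega)
  -- the remaining point
  set S : Set α := Set.range fun i : Fin p => x ^ (i : ℕ) • a with hS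
  have hScard : Nat.card S = p := by
    rw [hS, Nat.card_congr (Equiv.ofInjective _ hinj).symm, Nat.card_fin]
  have hcompl : Nat.card {b // b ∉ S} = 1 := by
    have := Nat.card_congr (Equiv.sumCompl fun b => b ∈ S)
    rw [Nat.card_sum, hα] at this
    change Nat.card S + Nat.card {b // b ∉ S} = p + 1 at this
    omega
  obtain ⟨hsub, ⟨⟨o, ho⟩⟩⟩ := Nat.card_eq_one_iff_unique.mp hcompl
  have hxS : ∀ b ∈ S, x • b ∈ S := by
    rintro _ ⟨i, rfl⟩
    refine ⟨⟨((i : ℕ) + 1) % p, Nat.mod_lt _ hp.pos⟩, ?_⟩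
    show x ^ (((i : ℕ) + 1) % p) • a = x • x ^ (i : ℕ) • a
    rw [← mul_smul, ← pow_succ']
    exact congrArg (· • a) (pow_eq_pow_iff_modEq.mpr (by rw [hxo]; exact Nat.mod_modEq _ _))
  have hxo' : x • o = o := by
    by_contra hne
    have hin : x • o ∈ S := by
      by_contra hout
      exact hne (congrArg Subtype.val (hsub.elim ⟨x • o, hout⟩ ⟨o, ho⟩))
    apply ho
    have hpow : ∀ n, 1 ≤ n → x ^ n • o ∈ S := by
      intro n hn
      induction n, hn using Nat.le_induction with
      | base => rwa [pow_one]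
      | succ n _ ih => rw [pow_succ', mul_smul]; exact hxS _ ih
    simpa [← hxo, pow_orderOf_eq_one] using hpow (orderOf x) (orderOf_pos x)
  refine le_antisymm (fun g hg => ?_) ?_
  swap
  · intro y hy
    rw [Subgroup.mem_centralizer_iff]
    intro z hz
    exact congrArg Subtype.val
      ((IsCyclic.commGroup (α := P)).mul_comm ⟨z, hz⟩ ⟨y, hy⟩)
  have hgx : ∀ i : ℕ, g * x ^ i = x ^ i * g := fun i =>
    (Subgroup.mem_centralizer_iff.mp hg _ (pow_mem hxP i)).symm
  have hgo : g • o = o := by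
    by_contra hne
    have hin : g • o ∈ S := by
      by_contra hout
      exact hne (congrArg Subtype.val (hsub.elim ⟨g • o, hout⟩ ⟨o, ho⟩))
    obtain ⟨i, hi⟩ := hin
    apply ha
    refine MulAction.injective (x ^ (i : ℕ)) ?_
    show x ^ (i : ℕ) • x • a = x ^ (i : ℕ) • a
    have h1 : x • g • o = g • o := by
      rw [← mul_smul, ← pow_one x, ← hgx, pow_one, mul_smul, hxo']
    rw [← hi] at h1
    calc x ^ (i : ℕ) • x • a = x • x ^ (i : ℕ) • a := by
          rw [← mul_smul, ← mul_smul, ← pow_succ, ← pow_succ']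
      _ = _ := h1
  obtain ⟨i, hi⟩ : g • a ∈ S := by
    by_contra hout
    have he : g • a = o := congrArg Subtype.val (hsub.elim ⟨g • a, hout⟩ ⟨o, ho⟩)
    rw [← hgo] at he
    exact ho (MulAction.injective g he ▸ ⟨⟨0, hp.pos⟩, by simp⟩)
  have hgi : g = x ^ (i : ℕ) := by
    refine FaithfulSMul.eq_of_smul_eq_smul (α := α) fun b => ?_
    by_cases hb : b ∈ S
    · obtain ⟨j, rfl⟩ := hb
      show g • x ^ (j : ℕ) • a = x ^ (i : ℕ) • x ^ (j : ℕ) • a
      rw [← mul_smul, hgx, mul_smul, ← hi, ← mul_smul, ← mul_smul, ← pow_add, ← pow_add, add_comm]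
    · have hbo : b = o := congrArg Subtype.val (hsub.elim ⟨b, hb⟩ ⟨o, ho⟩)
      rw [hbo, hgo]
      exact (MulAction.mem_stabilizer_iff.mp
        (pow_mem (show x ∈ MulAction.stabilizer G o from hxo') _)).symm
  rw [hgi]
  exact pow_mem hxP _

/-- An element of prime order centralising every Sylow `r`-subgroup it normalises centralises the
simple normal subgroup they generate. -/
theorem centralizes_simple {p r a : ℕ} [Fact p.Prime] [Fact r.Prime] (hpr : p ≠ r) {x : G}
    (hx : orderOf x = p) (K : Subgroup G) [K.Normal] [IsSimpleGroup K] {m : ℕ}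
    (hK : Nat.card K = r ^ a * m) (hrm : ¬ r ∣ m) (ha : a ≠ 0) (hm1 : m ≠ 1)
    (hnc : ¬ IsMulCommutative K)
    (hord : ∀ j, 1 ≤ j → j ≤ a → ¬ p ∣ r ^ j - 1)
    (hf : ∀ f, f ∣ m → f % r = 1 → f ≤ Nat.card (Sylow r K) →
      f % p = Nat.card (Sylow r K) % p → f = Nat.card (Sylow r K))
    (hs : ¬ p ∣ Nat.card (Sylow r K)) :
    ∀ y ∈ K, y * x = x * y := by
  classical
  let im : Sylow r K → Subgroup G := fun Q => (Q : Subgroup K).map K.subtype
  have himc : ∀ Q, Nat.card (im Q) = r ^ a := fun Q => by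
    rw [Subgroup.card_map_of_injective K.subtype_injective, Sylow.card_sylow_eq Q hK hrm]
  let C : Subgroup K := (Subgroup.centralizer ({x} : Set G)).subgroupOf K
  have himle : ∀ Q : Sylow r K, im Q ≤ Subgroup.centralizer ({x} : Set G) ↔
      (Q : Subgroup K) ≤ C := fun Q => Subgroup.map_le_iff_le_comap
  -- conjugation by `x` on `K`
  let φ : MulAut K := MulAut.conjNormal x
  have hφ : ∀ Q : Sylow r K, φ • Q = Q ↔ x ∈ Subgroup.normalizer (im Q : Set G) := by
    intro Q
    constructor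
    · intro h
      refine Subgroup.mem_normalizer_fintype ?_
      rintro _ ⟨w, hw, rfl⟩
      refine ⟨φ w, ?_, MulAut.conjNormal_apply x w⟩
      rw [SetLike.mem_coe, ← h, Sylow.pointwise_smul_def]
      exact ⟨w, hw, rfl⟩
    · intro h
      refine Sylow.ext (Subgroup.eq_of_le_of_card_ge ?_ (le_of_eq ?_))
      · rw [Sylow.pointwise_smul_def]
        rintro _ ⟨w, hw, rfl⟩
        obtain ⟨w', hw', he⟩ := (Subgroup.mem_normalizer_iff.mp h _).mp ⟨w, hw, rfl⟩
        have : φ w = w' := Subtype.ext ((MulAut.conjNormal_apply x w).trans he.symm)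
        show φ w ∈ (Q : Subgroup K)
        rw [this]; exact hw'
      · rw [Sylow.card_sylow_eq _ hK hrm, Sylow.card_sylow_eq _ hK hrm]
  have hfixC : ∀ Q : Sylow r K, φ • Q = Q ↔ (Q : Subgroup K) ≤ C := by
    intro Q
    rw [hφ, ← himle]
    refine ⟨fun h y hy => Subgroup.mem_centralizer_singleton_iff.mpr
      (centralizes Fact.out hpr hx (im Q) (himc Q) h hord y hy), fun h => ?_⟩
    refine Subgroup.mem_normalizer_fintype fun y hy => ?_
    have := Subgroup.mem_centralizer_singleton_iff.mp (h hy)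
    rw [← this, mul_inv_cancel_right]
    exact hy
  -- the congruence for the fixed Sylow subgroups
  have hpow : φ ^ p = 1 := by
    show (MulAut.conjNormal x : MulAut K) ^ p = 1
    rw [← map_pow, ← hx, pow_orderOf_eq_one, map_one]
  letI : MulAction (Subgroup.zpowers φ) (Sylow r K) := inferInstance
  have hZ : IsPGroup p (Subgroup.zpowers φ) := by
    rintro ⟨z, hz⟩
    obtain ⟨i, rfl⟩ := Subgroup.mem_zpowers_iff.mp hz
    refine ⟨1, Subtype.ext ?_⟩
    show (φ ^ i) ^ (p ^ 1) = 1
    rw [pow_one, ← zpow_natCast, ← zpow_mul, mul_comm, zpow_mul, zpow_natCast, hpow, one_zpow]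
  have hmod := hZ.card_modEq_card_fixedPoints (Sylow r K)
  have hFeq : Nat.card (MulAction.fixedPoints (Subgroup.zpowers φ) (Sylow r K)) =
      Nat.card {Q : Sylow r K // (Q : Subgroup K) ≤ C} := by
    refine Nat.card_congr (Equiv.subtypeEquivRight fun Q => ?_)
    rw [← hfixC]
    refine ⟨fun h => h ⟨φ, Subgroup.mem_zpowers φ⟩, fun h z => ?_⟩
    obtain ⟨i, hi⟩ := Subgroup.mem_zpowers_iff.mp z.2
    have hst : φ ∈ MulAction.stabilizer (MulAut K) Q := h
    show (z : MulAut K) • Q = Q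
    rw [← hi]
    exact Subgroup.zpow_mem _ hst i
  rw [hFeq] at hmod
  set f := Nat.card {Q : Sylow r K // (Q : Subgroup K) ≤ C} with hfdef
  have hf0 : f ≠ 0 := fun h0 => hs (Nat.modEq_zero_iff_dvd.mp (h0 ▸ hmod))
  obtain ⟨⟨Q₀, hQ₀⟩⟩ := (Nat.card_pos_iff.mp (Nat.pos_of_ne_zero hf0)).1
  obtain ⟨m', hm'⟩ := Subgroup.card_dvd_of_le hQ₀
  rw [Sylow.card_sylow_eq Q₀ hK hrm] at hm'
  have hCf : Nat.card (Sylow r C) = f := by
    refine Nat.card_congr (Equiv.ofBijective (fun Q => ⟨Sylow.ofCard ((Q : Subgroup C).map C.subtype)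
      ?_, ?_⟩) ⟨?_, ?_⟩)
    · rw [Subgroup.card_map_of_injective C.subtype_injective]
      have h1 := (Q : Sylow r C).card_eq_multiplicity
      have h2 := Q₀.card_eq_multiplicity
      have h3 := (Q₀.subtype hQ₀).card_eq_multiplicity
      rw [Sylow.coe_subtype, Nat.card_congr (Subgroup.subgroupOfEquivOfLe hQ₀).toEquiv] at h3
      rw [h1, ← h3, h2]
    · rw [Sylow.coe_ofCard]; exact Subgroup.map_subtype_le _
    · intro A B hAB
      have := congrArg (fun Q : {Q : Sylow r K // (Q : Subgroup K) ≤ C} => (Q.1 : Subgroup K)) hAB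
      simp only [Sylow.coe_ofCard] at this
      exact Sylow.ext (Subgroup.map_injective C.subtype_injective this)
    · rintro ⟨Q, hQ⟩
      refine ⟨Q.subtype hQ, Subtype.ext (Sylow.ext ?_)⟩
      rw [Sylow.coe_ofCard, Sylow.coe_subtype, Subgroup.map_subgroupOf_eq_of_le hQ]
  have hCm : m' ∣ m := by
    have h := C.card_subgroup_dvd_card
    rw [hm', hK] at h
    exact Nat.dvd_of_mul_dvd_mul_left (pow_pos (Fact.out : r.Prime).pos a) h
  have hfd : f ∣ m := by
    rw [← hCf]
    exact (Sylow.card_sylow_dvd (p := r) hm' fun hd => hrm (hd.trans hCm)).trans hCm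
  have hfr : f % r = 1 := hCf ▸ Sylow.card_sylow_mod (p := r) (G := C)
  have hfle : f ≤ Nat.card (Sylow r K) := Nat.card_le_card_of_injective _ Subtype.val_injective
  have hall := hf f hfd hfr hfle hmod.symm
  have hQC : ∀ Q : Sylow r K, (Q : Subgroup K) ≤ C := fun Q => by
    by_contra hQ
    have := Finite.card_subtype_lt (p := fun Q : Sylow r K => (Q : Subgroup K) ≤ C) hQ
    omega
  -- they generate `K`
  let J : Subgroup K := ⨆ Q : Sylow r K, (Q : Subgroup K)
  have hJn : J.Normal := by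
    rw [← Subgroup.normalizer_eq_top_iff, eq_top_iff]
    intro g _
    refine Subgroup.mem_normalizer_fintype fun w hw => ?_
    have hle : J.map (MulAut.conj g).toMonoidHom ≤ J := by
      rw [Subgroup.map_iSup]
      refine iSup_le fun Q => le_trans ?_ (le_iSup (fun Q : Sylow r K => (Q : Subgroup K)) (g • Q))
      intro z hz
      rw [Sylow.coe_subgroup_smul]
      exact hz
    exact hle ⟨w, hw, by simp⟩
  have hJle : J ≤ C := iSup_le hQC
  rcases hJn.eq_bot_or_eq_top with hJ | hJ
  · exfalso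
    have hle : (Q₀ : Subgroup K) ≤ J := le_iSup (fun Q : Sylow r K => (Q : Subgroup K)) Q₀
    rw [hJ, le_bot_iff] at hle
    have h1 := Sylow.card_sylow_eq Q₀ hK hrm
    rw [hle, Subgroup.card_bot] at h1
    exact absurd h1 (Nat.one_lt_pow ha (Fact.out : r.Prime).one_lt).ne
  · intro y hy
    exact Subgroup.mem_centralizer_singleton_iff.mp
      (Subgroup.mem_subgroupOf.mp (hJle (hJ ▸ Subgroup.mem_top (⟨y, hy⟩ : K))))

end Cfsg.Agent.Lib.SmallSimple.CoprimeAct
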