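import Cfsg.Agent.S0984
import Cfsg.Agent.Lib.BC77.ThreeDegrees.Basic
import Cfsg.Agent.Lib.Cores.Basic
import Cfsg.Agent.Lib.PrimePowerClass.Radical
import Cfsg.Agent.Lib.RecogThree.L33.Order.Main
import Cfsg.Agent.Lib.SmallSimple.CoprimeAct
import Cfsg.Agent.Lib.SmallSimple.Known

/-!
A simple group of order less than `6000` is determined by its order and its degree graph.
-/

set_option autoImplicit false
set_option linter.style.haveILetI false
set_option linter.unusedSectionVars false

namespace Cfsg.Agent.Lib.SmallSimple.Main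

open Cfsg.Agent.Lib
open Cfsg.Agent.Lib.PrimePowerClass.Radical
open Known (orders)

universe u v

/-! ## Groups of order less than 6000 that are not soluble -/

theorem exists_section {G : Type u} [Group G] [Finite G] (hG : ¬ Group.IsSolvable G)
    (hlt : Nat.card G < 6000) : ∃ m ∈ orders, m ∣ Nat.card G := by
  suffices key : ∀ (k : ℕ) (H : Type u) [Group H] [Finite H], Nat.card H = k → k < 6000 →
      ¬ Group.IsSolvable H → ∃ m ∈ orders, m ∣ k from key _ G rfl hlt hG
  intro k
  induction k using Nat.strong_induction_on with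
  | _ k ih =>
    intro H _ _ hk hlt hH
    haveI : Nontrivial H := by
      by_contra hn
      haveI := not_nontrivial_iff_subsingleton.mp hn
      exact hH (Group.isSolvable_of_comm fun _ _ => Subsingleton.elim _ _)
    by_cases hs : IsSimpleGroup H
    · haveI := hs
      have hnc : ¬ IsMulCommutative H := fun h => hH
        (Group.isSolvable_of_comm fun a b => h.is_comm.comm a b)
      exact ⟨_, hk ▸ Known.card_mem hnc (hk.symm ▸ hlt), dvd_rfl⟩
    · obtain ⟨N, hN, hb, ht⟩ : ∃ N : Subgroup H, N.Normal ∧ N ≠ ⊥ ∧ N ≠ ⊤ := by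
        by_contra hc
        push Not at hc
        exact hs ⟨fun N hN => or_iff_not_imp_left.mpr (hc N hN)⟩
      haveI := hN
      have hmul := N.card_mul_index
      rw [hk] at hmul
      have hk0 : 0 < k := hk ▸ Nat.card_pos
      have h1 : Nat.card N ≠ 1 := fun h => hb (Subgroup.eq_bot_of_card_eq N h)
      have h2 : N.index ≠ 1 := fun h => ht (Subgroup.index_eq_one.mp h)
      have hdN : Nat.card N ∣ k := ⟨_, hmul.symm⟩
      have hdQ : Nat.card (H ⧸ N) ∣ k := ⟨Nat.card N, by
        rw [mul_comm]; exact hmul.symm.trans (by rw [Subgroup.index])⟩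
      have hltN : Nat.card N < k := lt_of_le_of_ne (Nat.le_of_dvd hk0 hdN) fun h => h2 (by
        rw [h] at hmul; nlinarith)
      have hltQ : Nat.card (H ⧸ N) < k := lt_of_le_of_ne (Nat.le_of_dvd hk0 hdQ) fun h => h1 (by
        rw [← Subgroup.index] at h; rw [h] at hmul; nlinarith)
      by_cases hsN : Group.IsSolvable N
      · have hsQ : ¬ Group.IsSolvable (H ⧸ N) := fun h => hH (by
          haveI := hsN; haveI := h
          exact Group.isSolvable_of_ker_le_range N.subtype (QuotientGroup.mk' N)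
            (by rw [QuotientGroup.ker_mk', Subgroup.range_subtype]))
        obtain ⟨m, hm, hd⟩ := ih _ hltQ (H ⧸ N) rfl (hltQ.trans hlt) hsQ
        exact ⟨m, hm, hd.trans hdQ⟩
      · obtain ⟨m, hm, hd⟩ := ih _ hltN N rfl (hltN.trans hlt) hsN
        exact ⟨m, hm, hd.trans hdN⟩

theorem solvable_of_no_order {G : Type u} [Group G] [Finite G] (hlt : Nat.card G < 6000)
    (h : ∀ m ∈ orders, ¬ m ∣ Nat.card G) : Group.IsSolvable G := by
  by_contra hc
  obtain ⟨m, hm, hd⟩ := exists_section hc hlt
  exact h m hm hd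

/-- No two of the orders have their product dividing a third. -/
theorem mul_not_dvd {a b n : ℕ} (ha : a ∈ orders) (hb : b ∈ orders) (hn : n ∈ orders) :
    ¬ a * b ∣ n := by
  exact (by decide +kernel : ∀ a ∈ orders, ∀ b ∈ orders, ∀ n ∈ orders, ¬ a * b ∣ n) a ha b hb n hn

theorem lt_of_mem {n : ℕ} (hn : n ∈ orders) : n < 6000 := by
  revert n
  decide +kernel

/-- With a simple group of order `m` as factor, the rest is soluble. -/
theorem solvable_of_mul_dvd {G : Type u} [Group G] [Finite G] {m n : ℕ} (hm : m ∈ orders)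
    (hn : n ∈ orders) (h : m * Nat.card G ∣ n) : Group.IsSolvable G := by
  refine solvable_of_no_order ?_ fun m' hm' hd =>
    mul_not_dvd hm hm' hn ((mul_dvd_mul_left m hd).trans h)
  have h0 : n ≠ 0 := (by decide +kernel : ∀ k ∈ orders, k ≠ 0) n hn
  have := Nat.le_of_dvd (Nat.pos_of_ne_zero h0) ((dvd_mul_left _ m).trans h)
  have := lt_of_mem hn
  omega

/-! ## Soluble groups -/

section

variable {G : Type v} [Group G] [Finite G]

/-- A prime dividing a degree and dividing the order exactly once has trivial core. -/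
theorem pCore_eq_bot {p : ℕ} [Fact p.Prime] (hp2 : ¬ p ^ 2 ∣ Nat.card G)
    (hdeg : p ∈ Cfsg.degreePrimes G) : Cfsg.pCore p G = ⊥ := by
  obtain ⟨k, hk⟩ := IsPGroup.iff_card.mp (Cores.pCore_isPGroup (G := G) p)
  rcases Nat.eq_zero_or_pos k with hk0 | hk0
  · exact Subgroup.eq_bot_of_card_eq _ (by rw [hk, hk0, pow_zero])
  exfalso
  have hk1 : k = 1 := by
    by_contra hne
    exact hp2 ((pow_dvd_pow p (by omega : 2 ≤ k)).trans (hk ▸ Subgroup.card_subgroup_dvd_card _))
  rw [hk1, pow_one] at hk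
  haveI := isCyclic_of_prime_card hk
  refine Degrees.not_degreePrime (A := Cfsg.pCore p G) (fun a ha b hb => ?_) (fun hd => ?_) hdeg
  · exact congrArg Subtype.val ((IsCyclic.commGroup (α := Cfsg.pCore p G)).mul_comm ⟨a, ha⟩ ⟨b, hb⟩)
  · obtain ⟨t, ht⟩ := hd
    exact hp2 ⟨t, by rw [← (Cfsg.pCore p G).card_mul_index, hk, ht]; ring⟩

/-- The test for the `q`-groups an element of order `p` may act on in order `n`. -/
def actOk (n p q k : ℕ) : Bool :=
  ((List.range (k + 1)).all fun j => decide (j = 0 ∨ (q ^ j - 1) % p ≠ 0)) ||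
    (((List.range k).all fun j => decide (j = 0 ∨ (q ^ j - 1) % p ≠ 0)) &&
      decide (n % q ^ (k + 1) ≠ 0) &&
        decide ((n, q) ∈ [(168, 2), (504, 2), (5616, 3)]))

/-- A soluble group has no such order and degree primes. -/
theorem not_solvable {n p : ℕ} [Fact p.Prime] (hG : Nat.card G = n) (hpn : p ∣ n)
    (hp2 : ¬ p ^ 2 ∣ n) (hdeg : p ∈ Cfsg.degreePrimes G)
    (hdeg' : ∀ q, (n, q) ∈ [(168, 2), (504, 2), (5616, 3)] → q ∈ Cfsg.degreePrimes G)
    (hok : ∀ q k, q.Prime → q ≠ p → q ^ k ∣ n → actOk n p q k = true) :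
    ¬ Group.IsSolvable G := by
  intro hsol
  haveI := hsol
  have hp : p.Prime := Fact.out
  have hOp := pCore_eq_bot (hG.symm ▸ hp2) hdeg
  obtain ⟨x, hx⟩ := exists_prime_orderOf_dvd_card' (G := G) p (hG.symm ▸ hpn)
  have hall : ∀ q : Nat.Primes, ∀ y ∈ Cfsg.pCore (q : ℕ) G, y * x = x * y := by
    intro q
    haveI : Fact (q : ℕ).Prime := ⟨q.2⟩
    by_cases hq : (q : ℕ) = p
    · intro y hy
      rw [hq, hOp, Subgroup.mem_bot] at hy
      rw [hy, one_mul, mul_one]
    · obtain ⟨k, hk⟩ := IsPGroup.iff_card.mp (Cores.pCore_isPGroup (G := G) (q : ℕ))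
      have hdk : (q : ℕ) ^ k ∣ n := hG ▸ hk ▸ Subgroup.card_subgroup_dvd_card _
      haveI hnorm : (Cfsg.pCore (q : ℕ) G).Normal := inferInstance
      have hN : x ∈ Subgroup.normalizer (Cfsg.pCore (q : ℕ) G : Set G) := by
        rw [Subgroup.normalizer_eq_top_iff.mpr hnorm]; trivial
      have h := hok q k q.2 hq hdk
      simp only [actOk, Bool.or_eq_true, Bool.and_eq_true, List.all_eq_true, List.mem_range,
        decide_eq_true_eq] at h
      rcases h with h | ⟨⟨h, hfull⟩, hmem⟩
      · refine CoprimeAct.centralizes q.2 (Ne.symm hq) hx _ hk hN fun j hj1 hj hd => ?_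
        rcases h j (by omega) with e | e
        · omega
        · exact e (Nat.mod_eq_zero_of_dvd hd)
      · rcases CoprimeAct.centralizes_or_comm q.2 (Ne.symm hq) hx _ hk hN (fun j hj1 hj hd => by
          rcases h j hj with e | e
          · omega
          · exact e (Nat.mod_eq_zero_of_dvd hd)) with hc | hab
        · exact hc
        · refine absurd (hdeg' _ hmem) (Degrees.not_degreePrime hab fun hd => hfull ?_)
          obtain ⟨t, ht⟩ := hd
          refine Nat.mod_eq_zero_of_dvd ⟨t, ?_⟩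
          rw [← hG, ← (Cfsg.pCore (q : ℕ) G).card_mul_index, hk, ht]; ring
  have hxF : x ∈ Cfsg.fittingSubgroup G := by
    refine Cores.centralizer_fittingSubgroup_le ?_
    rw [Subgroup.mem_centralizer_iff]
    intro y hy
    have hle : Cfsg.fittingSubgroup G ≤ Subgroup.centralizer ({x} : Set G) := by
      rw [Cores.fittingSubgroup_eq_iSup_pCore]
      exact iSup_le fun q z hz => Subgroup.mem_centralizer_singleton_iff.mpr (hall q z hz)
    exact Subgroup.mem_centralizer_singleton_iff.mp (hle hy)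
  haveI hnil : Group.IsNilpotent (Cfsg.fittingSubgroup G) := Cores.fittingSubgroup_isNilpotent
  have hfn : (Cfsg.fittingSubgroup G).Normal := by
    rw [Cores.fittingSubgroup_eq_iSup_pCore]; infer_instance
  haveI := hfn
  have hz : IsPGroup p (Subgroup.zpowers (⟨x, hxF⟩ : Cfsg.fittingSubgroup G)) :=
    IsPGroup.of_card (n := 1) (by rw [Nat.card_zpowers, Subgroup.orderOf_mk, hx, pow_one])
  obtain ⟨P, hP⟩ := hz.exists_le_sylow
  haveI hPn : (P : Subgroup (Cfsg.fittingSubgroup G)).Normal :=
    (Group.isNilpotent_of_finite_tfae.out 0 3 rfl rfl).mp hnil p inferInstance P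
  have hmem : x ∈ (Cfsg.pCore p (Cfsg.fittingSubgroup G)).map (Cfsg.fittingSubgroup G).subtype :=
    ⟨⟨x, hxF⟩, Cores.le_pCore P.isPGroup' (hP (Subgroup.mem_zpowers _)), rfl⟩
  rw [Cores.map_subtype_pCore] at hmem
  have h1 : x = 1 := by simpa [hOp] using hmem.2
  rw [h1, orderOf_one] at hx
  exact hp.ne_one hx.symm

end

/-- The prime divisors of the orders. -/
theorem prime_le_of_dvd {n q : ℕ} (hn : n ∈ orders) (hq : q.Prime) (hd : q ∣ n) :
    q ∈ [2, 3, 5, 7, 11, 13, 17, 19] := by
  have hL : n ∣ 2 ^ 4 * 3 ^ 3 * 5 * 7 * 11 * 13 * 17 * 19 :=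
    (by decide +kernel : ∀ k ∈ orders, k ∣ 2 ^ 4 * 3 ^ 3 * 5 * 7 * 11 * 13 * 17 * 19) n hn
  have h := hd.trans hL
  have hpow : ∀ {r k : ℕ}, r.Prime → q ∣ r ^ k → q = r := fun hr h =>
    (Nat.prime_dvd_prime_iff_eq hq hr).mp (hq.dvd_of_dvd_pow h)
  have h1 : ∀ {r : ℕ}, r.Prime → q ∣ r → q = r := fun hr h =>
    (Nat.prime_dvd_prime_iff_eq hq hr).mp h
  simp only [List.mem_cons, List.not_mem_nil, or_false]
  rcases (Nat.Prime.dvd_mul hq).mp h with h | h
  swap; · have := h1 (r := 19) (by norm_num) h; omega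
  rcases (Nat.Prime.dvd_mul hq).mp h with h | h
  swap; · have := h1 (r := 17) (by norm_num) h; omega
  rcases (Nat.Prime.dvd_mul hq).mp h with h | h
  swap; · have := h1 (r := 13) (by norm_num) h; omega
  rcases (Nat.Prime.dvd_mul hq).mp h with h | h
  swap; · have := h1 (r := 11) (by norm_num) h; omega
  rcases (Nat.Prime.dvd_mul hq).mp h with h | h
  swap; · have := h1 (r := 7) (by norm_num) h; omega
  rcases (Nat.Prime.dvd_mul hq).mp h with h | h
  swap; · have := h1 (r := 5) (by norm_num) h; omega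
  rcases (Nat.Prime.dvd_mul hq).mp h with h | h
  · have := hpow (r := 2) (by norm_num) h; omega
  · have := hpow (r := 3) (by norm_num) h; omega

/-- The prime used for each order. -/
def mainPrime : List (ℕ × ℕ) :=
  [(60, 5), (168, 7), (360, 5), (504, 7), (660, 11), (1092, 13), (2448, 17), (2520, 5), (3420, 19),
    (4080, 17), (5616, 13)]

section

variable {S : Type u} [Group S] [Finite S] [IsSimpleGroup S] {G : Type v} [Group G] [Finite G]

theorem not_solvable_of {n : ℕ} (hS : Nat.card S = n) (hn : n ∈ orders) (hG : Nat.card G = n)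
    (hp : Cfsg.degreePrimes G = Cfsg.degreePrimes S) : ¬ Group.IsSolvable G := by
  obtain ⟨p, hmem⟩ : ∃ p, (n, p) ∈ mainPrime := by
    simp only [orders, List.mem_cons, List.not_mem_nil, or_false] at hn
    rcases hn with rfl | rfl | rfl | rfl | rfl | rfl | rfl | rfl | rfl | rfl | rfl <;>
      simp [mainPrime]
  have hfacts : ∀ x ∈ mainPrime, x.2 ∈ [2, 3, 5, 7, 11, 13, 17, 19] ∧ x.2 ∣ x.1 ∧
      ¬ x.2 ^ 2 ∣ x.1 ∧ x ∈ [(60, 5), (168, 7), (168, 2), (360, 5), (504, 7), (504, 2), (660, 11),
      (1092, 13), (2448, 17), (2520, 7), (2520, 5), (3420, 19), (4080, 17), (5616, 13),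
      (5616, 3)] ∧ ∀ q ∈ [2, 3, 5, 7, 11, 13, 17, 19], ∀ k ∈ List.range 14, q ≠ x.2 →
        q ^ k ∣ x.1 → actOk x.1 x.2 q k = true := by
    decide +kernel
  obtain ⟨hp8, hpn, hp2, hin, hact⟩ := hfacts _ hmem
  have hpp : p.Prime := by
    simp only [List.mem_cons, List.not_mem_nil, or_false] at hp8
    rcases hp8 with rfl | rfl | rfl | rfl | rfl | rfl | rfl | rfl <;> norm_num
  haveI : Fact p.Prime := ⟨hpp⟩
  refine not_solvable hG hpn hp2 (hp ▸ Known.mem_degreePrimes hS hin) (fun q hq => ?_)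
    fun q k hq hne hd => ?_
  · refine hp ▸ Known.mem_degreePrimes hS ?_
    simp only [List.mem_cons, Prod.mk.injEq, List.not_mem_nil, or_false] at hq
    rcases hq with ⟨rfl, rfl⟩ | ⟨rfl, rfl⟩ | ⟨rfl, rfl⟩ <;> decide
  · rcases Nat.eq_zero_or_pos k with rfl | hk
    · simp [actOk]
    refine hact q (prime_le_of_dvd hn hq ((dvd_pow_self q hk.ne').trans hd)) k
      (List.mem_range.mpr ?_) hne hd
    by_contra hc
    have h1 : 2 ^ 14 ≤ q ^ k := le_trans (Nat.pow_le_pow_left hq.two_le 14)
      (Nat.pow_le_pow_right hq.pos (by omega))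
    have h0 : n ≠ 0 := by rintro rfl; exact absurd hn (by decide)
    have := Nat.le_of_dvd (Nat.pos_of_ne_zero h0) hd
    have := lt_of_mem hn
    norm_num at h1
    omega

end

/-! ## The structure of an insoluble group -/

section

variable {G : Type v} [Group G] [Finite G]

theorem solRad_quotient : solRad (G ⧸ solRad G) = ⊥ := by
  have h := comap_solRad_le (QuotientGroup.mk' (solRad G))
    (by rw [QuotientGroup.ker_mk']; exact solRad_isSolvable)
  rw [eq_bot_iff]
  intro y hy
  obtain ⟨g, rfl⟩ := QuotientGroup.mk'_surjective (solRad G) y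
  rw [Subgroup.mem_bot]
  exact (QuotientGroup.eq_one_iff g).mpr (h hy)

/-- With trivial soluble radical there is a simple normal subgroup with trivial centraliser. -/
theorem exists_socle {n : ℕ} (hn : n ∈ orders) (hG : Nat.card G ∣ n) (hrad : solRad G = ⊥)
    [Nontrivial G] : ∃ N : Subgroup G, N.Normal ∧ IsSimpleGroup N ∧ Nat.card N ∈ orders ∧
      Subgroup.centralizer (N : Set G) = ⊥ := by
  classical
  have h0 : n ≠ 0 := by rintro rfl; exact absurd hn (by decide)
  obtain ⟨N, ⟨hN, hNb⟩, hmin⟩ := Set.Finite.exists_minimal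
    (Set.toFinite {N : Subgroup G | N.Normal ∧ N ≠ ⊥}) ⟨⊤, inferInstance, top_ne_bot⟩
  haveI := hN
  have hmin' : ∀ M : Subgroup G, M.Normal → M ≤ N → M = ⊥ ∨ M = N := fun M hM hle =>
    or_iff_not_imp_left.mpr fun hb => le_antisymm hle (hmin ⟨hM, hb⟩ hle)
  have hns : ¬ Group.IsSolvable N := fun h => hNb (le_bot_iff.mp (hrad ▸ le_solRad h))
  have hNn : Nat.card N ∣ n := (Subgroup.card_subgroup_dvd_card N).trans hG
  have hlt : Nat.card N < 6000 :=
    lt_of_le_of_lt (Nat.le_of_dvd (Nat.pos_of_ne_zero h0) hNn) (lt_of_mem hn)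
  haveI : Nontrivial N := N.nontrivial_iff_ne_bot.mpr hNb
  have hperf : commutator N = ⊤ := by
    haveI := Cores.normal_map_subtype N (commutator N)
    rcases hmin' _ inferInstance (Subgroup.map_subtype_le (commutator N)) with h | h
    · refine absurd (Group.isSolvable_of_comm fun a b => ?_) hns
      have hm : a * b * a⁻¹ * b⁻¹ ∈ commutator N := by
        rw [← commutatorElement_def]
        exact Subgroup.commutator_mem_commutator (Subgroup.mem_top a) (Subgroup.mem_top b)
      have h1 : ((a * b * a⁻¹ * b⁻¹ : N) : G) ∈ (⊥ : Subgroup G) := h ▸ ⟨_, hm, rfl⟩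
      rw [Subgroup.mem_bot, OneMemClass.coe_eq_one, mul_inv_eq_one] at h1
      exact mul_inv_eq_iff_eq_mul.mp h1
    · refine Subgroup.map_injective N.subtype_injective ?_
      rw [h, ← MonoidHom.range_eq_map, Subgroup.range_subtype]
  have hsimp : IsSimpleGroup N := by
    refine ⟨fun A hA => ?_⟩
    by_cases hAs : Group.IsSolvable A
    · left
      have hAim : A.map N.subtype = ⊥ := eq_bot_of_minimal hns hmin' (Subgroup.map_subtype_le A)
        (by haveI := hAs; exact Group.isSolvable_of_surjective (N.subtype.subgroupMap_surjective A))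
        (fun g hg => by
          refine Subgroup.mem_normalizer_fintype ?_
          rintro _ ⟨a, ha, rfl⟩
          exact ⟨⟨g, hg⟩ * a * ⟨g, hg⟩⁻¹, hA.conj_mem a ha _, rfl⟩)
      exact (Subgroup.map_eq_bot_iff_of_injective _ N.subtype_injective).mp hAim
    · right
      obtain ⟨m', hm', hd'⟩ := exists_section hAs (lt_of_le_of_lt (Subgroup.card_le_card_group A) hlt)
      haveI hq : Group.IsSolvable (N ⧸ A) := solvable_of_mul_dvd hm' hn
        ((mul_dvd_mul_right hd' _).trans
          (by rw [show Nat.card (N ⧸ A) = A.index from rfl, A.card_mul_index]; exact hNn))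
      by_contra hAt
      haveI : Nontrivial (N ⧸ A) := by
        rw [← Finite.one_lt_card_iff_nontrivial]
        have := Subgroup.index_ne_zero_of_finite (H := A)
        have : A.index ≠ 1 := fun h => hAt (Subgroup.index_eq_one.mp h)
        show 1 < A.index
        omega
      refine (Group.IsSolvable.commutator_lt_top_of_nontrivial (N ⧸ A)).ne ?_
      rw [eq_top_iff, ← Subgroup.map_top_of_surjective _ (QuotientGroup.mk'_surjective A), ← hperf,
        commutator_def, Subgroup.map_commutator, commutator_def]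
      exact Subgroup.commutator_mono le_top le_top
  haveI := hsimp
  have hnc : ¬ IsMulCommutative N := fun h => hns
    (Group.isSolvable_of_comm fun a b => h.is_comm.comm a b)
  have hNo : Nat.card N ∈ orders := Known.card_mem hnc hlt
  refine ⟨N, hN, hsimp, hNo, ?_⟩
  set C := Subgroup.centralizer (N : Set G) with hC
  haveI : C.Normal := Subgroup.normal_centralizer
  have hinf : N ⊓ C = ⊥ := by
    rw [eq_bot_iff]
    rintro g ⟨hgN, hgC⟩
    have hz : (⟨g, hgN⟩ : N) ∈ Subgroup.center N := Subgroup.mem_center_iff.mpr fun y =>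
      Subtype.ext (Subgroup.mem_centralizer_iff.mp hgC y y.2)
    rw [SmallGroups.Sylow.center_eq_bot hnc, Subgroup.mem_bot] at hz
    rw [Subgroup.mem_bot]
    exact congrArg Subtype.val hz
  have hprod : Nat.card N * Nat.card C ∣ n := by
    refine dvd_trans ?_ hG
    rw [← Nat.card_prod]
    let f : N × C →* G := MonoidHom.noncommCoprod N.subtype C.subtype fun a b =>
      Subgroup.mem_centralizer_iff.mp b.2 a a.2
    refine Subgroup.card_dvd_of_injective f ?_
    rw [injective_iff_map_eq_one]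
    rintro ⟨a, b⟩ h
    change (a : G) * b = 1 at h
    have ha : (a : G) ∈ N ⊓ C := Subgroup.mem_inf.mpr
      ⟨a.2, by rw [eq_inv_of_mul_eq_one_left h]; exact inv_mem b.2⟩
    rw [hinf, Subgroup.mem_bot] at ha
    rw [ha, one_mul] at h
    exact Prod.ext (Subtype.ext ha) (Subtype.ext h)
  have hCs : Group.IsSolvable C := solvable_of_mul_dvd hNo hn hprod
  exact le_bot_iff.mp (hrad ▸ le_solRad hCs)

/-- A prime dividing the order once cannot be outside the simple factor. -/
theorem kill {n p r a mm : ℕ} [Fact p.Prime] [Fact r.Prime] (hG : Nat.card G = n) (hpn : p ∣ n)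
    (hp2 : ¬ p ^ 2 ∣ n) (hdeg : p ∈ Cfsg.degreePrimes G)
    (N : Subgroup (G ⧸ solRad G)) [N.Normal] [IsSimpleGroup N]
    (hcent : Subgroup.centralizer (N : Set (G ⧸ solRad G)) = ⊥)
    (hN : Nat.card N = r ^ a * mm) (hrm : ¬ r ∣ mm) (hpr : p ≠ r) (ha : a ≠ 0) (hm1 : mm ≠ 1)
    (hnp : ¬ (r ^ a * mm).Prime)
    (hord : ∀ j ∈ List.range (a + 1), j = 0 ∨ (r ^ j - 1) % p ≠ 0)
    (htest : ∀ s ∈ mm.divisors, s % r = 1 → s ≠ 1 → 2 * (r ^ a * mm) ∣ s.factorial →
      s % p ≠ 0 ∧ ∀ f ∈ mm.divisors, f % r = 1 → f ≤ s → f % p = s % p → f = s)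
    (hrest : ∀ d ∈ (n / (r ^ a * mm) / p).divisors, d % p = 1 → d = 1) : False := by
  have hp : p.Prime := Fact.out
  have hnc : ¬ IsMulCommutative N := SmallGroups.Sylow.not_comm_of_card (hN.symm ▸ hnp)
  have hRQ := (solRad G).card_mul_index
  rw [hG] at hRQ
  have hNQ : r ^ a * mm ∣ Nat.card (G ⧸ solRad G) := hN ▸ Subgroup.card_subgroup_dvd_card N
  have hmm0 : mm ≠ 0 := fun h => hrm (h ▸ dvd_zero r)
  by_cases hpQ : p ∣ Nat.card (G ⧸ solRad G)
  · obtain ⟨x, hx⟩ := exists_prime_orderOf_dvd_card' (G := G ⧸ solRad G) p hpQ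
    have hs1 : Nat.card (Sylow r N) ≠ 1 :=
      SmallGroups.Sylow.card_sylow_ne_one hN hrm ha hm1
    obtain ⟨hs, hf⟩ := htest _ (Nat.mem_divisors.mpr
        ⟨SmallGroups.Sylow.card_sylow_dvd hN hrm, hmm0⟩)
      SmallGroups.Sylow.card_sylow_mod hs1
      (hN ▸ SmallGroups.Sylow.two_mul_card_dvd_sylow_factorial hnc hs1)
    have hall := CoprimeAct.centralizes_simple hpr hx N hN hrm ha hm1 hnc
      (fun j hj1 hj hd => by
        rcases hord j (List.mem_range.mpr (by omega)) with e | e
        · omega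
        · exact e (Nat.mod_eq_zero_of_dvd hd))
      (fun f hfd hfr hfle hfp => hf f (Nat.mem_divisors.mpr ⟨hfd, hmm0⟩) hfr hfle hfp)
      (fun hd => hs (Nat.mod_eq_zero_of_dvd hd))
    have hxC : x ∈ Subgroup.centralizer (N : Set (G ⧸ solRad G)) :=
      Subgroup.mem_centralizer_iff.mpr fun y hy => hall y hy
    rw [hcent, Subgroup.mem_bot] at hxC
    rw [hxC, orderOf_one] at hx
    exact hp.ne_one hx.symm
  · set R := solRad G with hR
    have hQR : Nat.card (G ⧸ R) = R.index := rfl
    have hpR : p ∣ Nat.card R := (hp.dvd_mul.mp (hRQ.symm ▸ hpn)).resolve_right (hQR ▸ hpQ)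
    have hRd : Nat.card R ∣ n / (r ^ a * mm) := by
      obtain ⟨t, ht⟩ := hNQ
      rw [hQR] at ht
      refine ⟨t, ?_⟩
      rw [← hRQ, ht, show Nat.card R * (r ^ a * mm * t) = r ^ a * mm * (Nat.card R * t) by ring,
        Nat.mul_div_cancel_left _ (hN ▸ Nat.card_pos)]
    obtain ⟨P⟩ : Nonempty (Sylow p R) := inferInstance
    obtain ⟨w, hw⟩ := hpR
    have hwp : ¬ p ∣ w := fun hd => hp2 (by
      rw [pow_two]; exact ((mul_dvd_mul_left p hd).trans (hw ▸ dvd_rfl)).trans ⟨_, hRQ.symm⟩)
    have hcw : Nat.card R = p ^ 1 * w := by rw [pow_one, hw]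
    have hs : Nat.card (Sylow p R) = 1 := by
      refine hrest _ (Nat.mem_divisors.mpr ⟨(SmallGroups.Sylow.card_sylow_dvd hcw hwp).trans ?_, ?_⟩)
        SmallGroups.Sylow.card_sylow_mod
      · rw [hw] at hRd
        exact (Nat.dvd_div_iff_mul_dvd ((dvd_mul_right p w).trans hRd)).mpr hRd
      · have hmn : r ^ a * mm ∣ n := hNQ.trans ⟨Nat.card R, by rw [hQR, mul_comm, hRQ]⟩
        have hpos : 0 < n / (r ^ a * mm) :=
          Nat.div_pos (Nat.le_of_dvd (hG ▸ Nat.card_pos) hmn) (hN ▸ Nat.card_pos)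
        have hpd : p ∣ n / (r ^ a * mm) := Nat.dvd_trans ⟨w, hw⟩ hRd
        exact (Nat.div_pos (Nat.le_of_dvd hpos hpd) hp.pos).ne'
    haveI : Subsingleton (Sylow p R) := (Nat.card_eq_one_iff_unique.mp hs).1
    haveI hPn : (P : Subgroup R).Normal := Sylow.normal_of_subsingleton P
    have hmap := Cores.map_subtype_pCore (G := G) p R
    rw [Cores.pCore_eq_of_normal_sylow P, pCore_eq_bot (hG.symm ▸ hp2) hdeg, inf_bot_eq,
      Subgroup.map_eq_bot_iff_of_injective _ R.subtype_injective] at hmap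
    have h1 := SmallGroups.Sylow.card_sylow_eq P hcw hwp
    rw [hmap, Subgroup.card_bot, pow_one] at h1
    exact hp.ne_one h1.symm

end

/-- Degrees of a normal subgroup divide degrees of the group. -/
theorem exists_dvd_degree {G : Type v} [Group G] [Finite G] (N : Subgroup G) [N.Normal] {d : ℕ}
    (h : d ∈ Cfsg.charDegrees N) : ∃ d' ∈ Cfsg.charDegrees G, d ∣ d' := by
  haveI := Fintype.ofFinite G
  haveI := Fintype.ofFinite N
  obtain ⟨θ, rfl⟩ := h
  obtain ⟨χ, e, -, he, -⟩ := BC77.ThreeDegrees.exists_over N θ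
  exact ⟨_, ⟨χ, rfl⟩, ⟨e, by rw [mul_comm]; exact he⟩⟩

theorem adj_of_dvd {G : Type v} [Group G] {p q d : ℕ} (hp : p.Prime) (hq : q.Prime) (hpq : p ≠ q)
    (hd : d ∈ Cfsg.charDegrees G) (h : p * q ∣ d) : (Cfsg.degreeGraph G).Adj p q :=
  ⟨hpq, hp, hq, d, hd, h⟩

/-! ## The order 504 -/

theorem kill_504 {G : Type v} [Group G] [Finite G] (hno : ¬ (Cfsg.degreeGraph G).Adj 2 3)
    (N : Subgroup (G ⧸ solRad G)) [N.Normal] [IsSimpleGroup N] (hN : Nat.card N = 168) : False := by
  obtain ⟨d, hd, h6⟩ := Known.six_dvd_168 hN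
  obtain ⟨d', hd', hdd⟩ := exists_dvd_degree N hd
  exact hno (adj_of_dvd Nat.prime_two Nat.prime_three (by norm_num)
    (Degrees.mem_of_surjective _ (QuotientGroup.mk'_surjective _) hd') (h6.trans hdd))

/-! ## The order 360 -/

section

variable {G : Type v} [Group G] [Finite G]

/-- The possible orders of a group with simple normal subgroup of order 60. -/
theorem card_over_60 (N : Subgroup G) [N.Normal] [IsSimpleGroup N] (hN : Nat.card N = 60)
    (hcent : Subgroup.centralizer (N : Set G) = ⊥) (hG : Nat.card G ∣ 360) [Fact (Nat.Prime 5)] :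
    ∃ P : Sylow 5 G, Nat.card (Sylow 5 G) = 6 ∧ Nat.card (P : Subgroup G) = 5 ∧
      Subgroup.centralizer ((P : Subgroup G) : Set G) = P ∧ Nat.card G ∣ 120 := by
  classical
  have hnc : ¬ IsMulCommutative N := SmallGroups.Sylow.not_comm_of_card (by rw [hN]; norm_num)
  obtain ⟨c, hc⟩ : 5 ∣ Nat.card G :=
    (show 5 ∣ 60 by norm_num).trans (hN ▸ Subgroup.card_subgroup_dvd_card N)
  have hc5 : ¬ 5 ∣ c := fun hd => by
    have := ((mul_dvd_mul_left 5 hd).trans (hc ▸ dvd_rfl)).trans hG
    norm_num at this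
  have hcG : Nat.card G = 5 ^ 1 * c := by rw [pow_one, hc]
  have hPc : ∀ P : Sylow 5 G, Nat.card (P : Subgroup G) = 5 := fun P => by
    rw [SmallGroups.Sylow.card_sylow_eq P hcG hc5, pow_one]
  have hi : ¬ 5 ∣ N.index := fun hd => by
    have h1 := N.card_mul_index
    rw [hN] at h1
    have := ((mul_dvd_mul_left 60 hd).trans (h1 ▸ dvd_rfl)).trans hG
    norm_num at this
  have hPN : ∀ P : Sylow 5 G, (P : Subgroup G) ≤ N := fun P x hx => by
    have h1 : orderOf (QuotientGroup.mk' N x) ∣ 5 := by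
      refine (orderOf_map_dvd _ x).trans ?_
      rw [← hPc P, ← Subgroup.orderOf_mk x hx]
      exact orderOf_dvd_natCard _
    rcases (Nat.dvd_prime (by norm_num)).mp h1 with h | h
    · exact (QuotientGroup.eq_one_iff x).mp (orderOf_eq_one_iff.mp h)
    · exact absurd (h ▸ orderOf_dvd_natCard _) hi
  have hN5 : Nat.card (Sylow 5 N) = 6 := by
    have h1 := SmallGroups.Sylow.card_sylow_mem (G := N) (p := 5) (a := 1) (m := 12)
      (by rw [hN]; norm_num) (by norm_num)
    rw [show (Nat.divisors 12).filter (fun d => d % 5 = 1) = {1, 6} by decide +kernel,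
      Finset.mem_insert, Finset.mem_singleton] at h1
    exact h1.resolve_left (SmallGroups.Sylow.card_sylow_ne_one (a := 1) (m := 12)
      (by rw [hN]; norm_num) (by norm_num) one_ne_zero (by norm_num))
  have hle : Nat.card (Sylow 5 G) ≤ 6 := by
    rw [← hN5]
    refine Nat.card_le_card_of_injective (fun P => P.subtype (hPN P)) fun P Q h => ?_
    exact Sylow.subtype_injective h
  have hbad : ∀ P : Sylow 5 G, ¬ N ≤ Subgroup.normalizer ((P : Subgroup G) : Set G) := fun P h => by
    haveI : ((P : Subgroup G).subgroupOf N).Normal :=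
      (Subgroup.normal_subgroupOf_iff_le_normalizer (hPN P)).mpr h
    have hcard : Nat.card ((P : Subgroup G).subgroupOf N) = 5 := by
      rw [Nat.card_congr (Subgroup.subgroupOfEquivOfLe (hPN P)).toEquiv, hPc]
    rcases IsSimpleGroup.eq_bot_or_eq_top_of_normal _
        (inferInstance : ((P : Subgroup G).subgroupOf N).Normal) with hb | hb <;> rw [hb] at hcard
    · rw [Subgroup.card_bot] at hcard; omega
    · rw [Subgroup.card_top, hN] at hcard; omega
  have hne1 : Nat.card (Sylow 5 G) ≠ 1 := fun h1 => by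
    haveI : Subsingleton (Sylow 5 G) := (Nat.card_eq_one_iff_unique.mp h1).1
    obtain ⟨P⟩ : Nonempty (Sylow 5 G) := inferInstance
    refine hbad P ?_
    haveI := Sylow.normal_of_subsingleton P
    rw [Subgroup.normalizer_eq_top_iff.mpr inferInstance]
    exact le_top
  have hn6 : Nat.card (Sylow 5 G) = 6 := by
    have := SmallGroups.Sylow.card_sylow_mod (p := 5) (G := G)
    omega
  let ψ := MulAction.toPermHom G (Sylow 5 G)
  have hinj : Function.Injective ψ := by
    rw [← MonoidHom.ker_eq_bot_iff]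
    have hKN : N ⊓ ψ.ker = ⊥ := by
      haveI : (ψ.ker.subgroupOf N).Normal := inferInstance
      rcases IsSimpleGroup.eq_bot_or_eq_top_of_normal _
          (inferInstance : (ψ.ker.subgroupOf N).Normal) with hb | hb
      · rw [eq_bot_iff]
        rintro g ⟨hgN, hgK⟩
        have : (⟨g, hgN⟩ : N) ∈ (⊥ : Subgroup N) := hb ▸ hgK
        exact congrArg Subtype.val (Subgroup.mem_bot.mp this)
      · exfalso
        obtain ⟨P⟩ : Nonempty (Sylow 5 G) := inferInstance
        refine hbad P fun g hg => ?_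
        have hk : ψ g = 1 := Subgroup.subgroupOf_eq_top.mp hb hg
        exact Sylow.smul_eq_iff_mem_normalizer.mp (by simpa [ψ] using Equiv.congr_fun hk P)
    refine le_bot_iff.mp (hcent ▸ fun g hg => Subgroup.mem_centralizer_iff.mpr fun y hy => ?_)
    exact Subgroup.commute_of_normal_of_disjoint N ψ.ker inferInstance inferInstance
      (disjoint_iff.mpr hKN) y g hy hg
  haveI : FaithfulSMul G (Sylow 5 G) := ⟨fun h => hinj (Equiv.ext h)⟩
  obtain ⟨P⟩ : Nonempty (Sylow 5 G) := inferInstance
  have hC := CoprimeAct.centralizer_eq_of_faithful (p := 5) (α := Sylow 5 G) (by rw [hn6]) _ (hPc P)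
  refine ⟨P, hn6, hPc P, hC, ?_⟩
  haveI := isCyclic_of_prime_card (hPc P)
  have h4 := SmallGroups.Sylow.relIndex_dvd_card_mulAut (P : Subgroup G)
  rw [IsCyclic.card_mulAut, hPc P, Nat.totient_prime (by norm_num)] at h4
  have h5 := SmallGroups.Sylow.card_centralizer_mul_relIndex (P : Subgroup G)
  rw [hC, hPc P] at h5
  rw [← SmallGroups.Sylow.card_normalizer_mul P, hn6, ← h5]
  rw [hC] at h4
  calc _ = 30 * _ := by ring
    _ ∣ 30 * 4 := mul_dvd_mul_left _ h4
    _ = 120 := by norm_num

/-- An element order argument: a commutative group of order six is cyclic. -/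
theorem isCyclic_of_six {R : Type*} [Group R] [Finite R] (hR : Nat.card R = 6)
    (hc : ∀ a b : R, a * b = b * a) : IsCyclic R := by
  haveI : Fact (Nat.Prime 2) := ⟨Nat.prime_two⟩
  haveI : Fact (Nat.Prime 3) := ⟨Nat.prime_three⟩
  obtain ⟨a, ha⟩ := exists_prime_orderOf_dvd_card' (G := R) 2 (by rw [hR]; norm_num)
  obtain ⟨b, hb⟩ := exists_prime_orderOf_dvd_card' (G := R) 3 (by rw [hR]; norm_num)
  refine isCyclic_of_orderOf_eq_card (a * b) ?_
  rw [(show Commute a b from hc a b).orderOf_mul_eq_mul_orderOf_of_coprime (by rw [ha, hb]; norm_num), ha,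
    hb, hR]

/-- A radical of order six with simple quotient of order sixty. -/
theorem kill_six (hG : Nat.card G = 360) (h25 : (Cfsg.degreeGraph G).Adj 2 5)
    (hno : ¬ (Cfsg.degreeGraph G).Adj 2 3) (R : Subgroup G) [R.Normal] (hR : Nat.card R = 6)
    [hs : IsSimpleGroup (G ⧸ R)] : False := by
  classical
  have hidx : R.index = 60 := by
    have := R.card_mul_index
    rw [hR, hG] at this
    omega
  have hQ : Nat.card (G ⧸ R) = 60 := hidx
  by_cases hc : ∀ a b : R, a * b = b * a
  · haveI := isCyclic_of_six hR hc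
    let θ : G →* MulAut R := MulAut.conjNormal
    have hab : ∀ a b : MulAut R, a * b = b * a := fun a b =>
      (IsCyclic.mulAutMulEquiv R).injective (by rw [map_mul, map_mul, mul_comm])
    have hcomm : commutator G ≤ θ.ker := by
      rw [commutator_def, Subgroup.commutator_le]
      intro g _ g' _
      rw [MonoidHom.mem_ker, map_commutatorElement, commutatorElement_def, hab (θ g) (θ g')]
      group
    have hRker : R ≤ θ.ker := fun y hy => by
      refine MulEquiv.ext fun z => Subtype.ext ?_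
      have := congrArg Subtype.val (hc ⟨y, hy⟩ z)
      simp only [Subgroup.coe_mul] at this
      show (θ y z : G) = z
      rw [MulAut.conjNormal_apply, this, mul_inv_cancel_right]
    have htop : θ.ker = ⊤ := by
      have hperf : commutator (G ⧸ R) = ⊤ := SmallGroups.Sylow.commutator_eq_top
        (SmallGroups.Sylow.not_comm_of_card (by rw [hQ]; norm_num))
      have h1 : (commutator G).map (QuotientGroup.mk' R) = ⊤ := by
        rw [commutator_def, Subgroup.map_commutator,
          Subgroup.map_top_of_surjective _ (QuotientGroup.mk'_surjective R), ← commutator_def, hperf]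
      have h2 := congrArg (Subgroup.comap (QuotientGroup.mk' R)) h1
      rw [Subgroup.comap_map_eq, QuotientGroup.ker_mk', Subgroup.comap_top] at h2
      exact top_le_iff.mp (h2 ▸ sup_le hcomm hRker)
    have hcen : R ≤ Subgroup.center G := fun y hy => Subgroup.mem_center_iff.mpr fun g => by
      have hg : θ g = 1 := MonoidHom.mem_ker.mp (htop ▸ Subgroup.mem_top g)
      have := congrArg (fun e : MulAut R => ((e ⟨y, hy⟩ : R) : G)) hg
      simp only [θ, MulAut.conjNormal_apply, MulAut.one_apply] at this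
      exact mul_inv_eq_iff_eq_mul.mp this
    obtain ⟨-, -, -, d, hd, h10⟩ := h25
    have h1 : (Subgroup.center G).index ≤ 60 :=
      Nat.le_of_dvd (by norm_num) (hidx ▸ Subgroup.index_dvd_of_le hcen)
    have h2 := Degrees.sq_le_center_index hd
    have h3 : 10 ≤ d := Nat.le_of_dvd (Nat.pos_of_dvd_of_pos (Degrees.dvd_card hd) Nat.card_pos) h10
    nlinarith
  · set D := Subgroup.centralizer (R : Set G) with hD
    haveI : D.Normal := Subgroup.normal_centralizer
    have hinf : D ⊓ R = ⊥ := by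
      rw [eq_bot_iff]
      rintro g ⟨hgD, hgR⟩
      rw [Subgroup.mem_bot]
      by_contra hg1
      apply hc
      -- the centre would be nontrivial, with cyclic quotient
      set Z := Subgroup.center R
      have hz : (⟨g, hgR⟩ : R) ∈ Z := Subgroup.mem_center_iff.mpr fun y =>
        Subtype.ext (Subgroup.mem_centralizer_iff.mp hgD y y.2)
      have hz1 : Nat.card Z ≠ 1 := fun h => hg1 (by
        have hb := Subgroup.eq_bot_of_card_eq Z h
        rw [hb, Subgroup.mem_bot] at hz
        exact congrArg Subtype.val hz)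
      have hzd : Nat.card Z ∈ Nat.divisors 6 :=
        Nat.mem_divisors.mpr ⟨hR ▸ Subgroup.card_subgroup_dvd_card Z, by norm_num⟩
      have hzi := Z.card_mul_index
      rw [hR] at hzi
      haveI : IsCyclic (R ⧸ Z) := by
        rw [show Nat.divisors 6 = {1, 2, 3, 6} by decide +kernel] at hzd
        simp only [Finset.mem_insert, Finset.mem_singleton] at hzd
        rcases hzd with e | e | e | e
        · exact absurd e hz1
        · haveI : Fact (Nat.Prime 3) := ⟨Nat.prime_three⟩
          exact isCyclic_of_prime_card (p := 3) (by show Z.index = 3; rw [e] at hzi; omega)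
        · haveI : Fact (Nat.Prime 2) := ⟨Nat.prime_two⟩
          exact isCyclic_of_prime_card (p := 2) (by show Z.index = 2; rw [e] at hzi; omega)
        · haveI : Subsingleton (R ⧸ Z) :=
            (Nat.card_eq_one_iff_unique.mp (show Z.index = 1 by rw [e] at hzi; omega)).1
          exact isCyclic_of_subsingleton
      exact ((QuotientGroup.mk' Z).isMulCommutative_of_isCyclic_of_ker_le_center
        (by rw [QuotientGroup.ker_mk'])).is_comm.comm
    let π := (QuotientGroup.mk' R).comp D.subtype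
    have hπ : Function.Injective π := by
      rw [injective_iff_map_eq_one]
      intro y hy
      have hm : (y : G) ∈ D ⊓ R := ⟨y.2, (QuotientGroup.eq_one_iff (y : G)).mp hy⟩
      rw [hinf, Subgroup.mem_bot] at hm
      exact Subtype.ext hm
    have hDn : (D.map (QuotientGroup.mk' R)).Normal :=
      Subgroup.Normal.map inferInstance _ (QuotientGroup.mk'_surjective R)
    rcases IsSimpleGroup.eq_bot_or_eq_top_of_normal _ hDn with hb | ht
    · let θ : G →* MulAut R := MulAut.conjNormal
      have hθ : Function.Injective θ := by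
        rw [injective_iff_map_eq_one]
        intro g hg
        have hgD : g ∈ D := Subgroup.mem_centralizer_iff.mpr fun y hy => by
          have := congrArg (fun e : MulAut R => ((e ⟨y, hy⟩ : R) : G)) hg
          simp only [θ, MulAut.conjNormal_apply, MulAut.one_apply] at this
          exact (mul_inv_eq_iff_eq_mul.mp this).symm
        have hgR : g ∈ R := by
          have : QuotientGroup.mk' R g ∈ (⊥ : Subgroup (G ⧸ R)) := hb ▸ ⟨g, hgD, rfl⟩
          exact (QuotientGroup.eq_one_iff g).mp (Subgroup.mem_bot.mp this)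
        exact (Subgroup.mem_bot.mp (hinf ▸ (⟨hgD, hgR⟩ : g ∈ D ⊓ R) : g ∈ (⊥ : Subgroup G)))
      have h1 := (Subgroup.card_dvd_of_injective θ hθ).trans
        (SmallGroups.Counting.card_mulAut_dvd_factorial R)
      rw [hG, hR] at h1
      norm_num [Nat.factorial] at h1
    · have hπs : Function.Surjective π := fun y => by
        obtain ⟨g, hg, he⟩ := (ht.symm ▸ Subgroup.mem_top y : y ∈ D.map (QuotientGroup.mk' R))
        exact ⟨⟨g, hg⟩, he⟩
      let e : D ≃* G ⧸ R := MulEquiv.ofBijective π ⟨hπ, hπs⟩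
      have hDc : Nat.card D = 60 := by rw [Nat.card_congr e.toEquiv, hQ]
      haveI : Nontrivial D := Finite.one_lt_card_iff_nontrivial.mp (by rw [hDc]; norm_num)
      haveI : IsSimpleGroup D := IsSimpleGroup.isSimpleGroup_of_surjective
        e.symm.toMonoidHom e.symm.surjective
      obtain ⟨d1, hd1, h3⟩ := Known.three_dvd_60 hDc
      obtain ⟨χ, hχ⟩ : ∃ χ : Cfsg.IrrCharacter R, Cfsg.charDegree (χ : R → ℂ) ≠ 1 := by
        by_contra hall
        push Not at hall
        exact hc (BC77.ThreeDegrees.comm_of_all_linear hall)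
      have hd2 : Cfsg.charDegree (χ : R → ℂ) = 2 := by
        have hmem : Cfsg.charDegree (χ : R → ℂ) ∈ Cfsg.charDegrees R := ⟨χ, rfl⟩
        have h6 : Cfsg.charDegree (χ : R → ℂ) ∣ 6 := hR ▸ Degrees.dvd_card hmem
        have hsq := (Degrees.sq_le_center_index hmem).trans
          (Nat.le_of_dvd Nat.card_pos (Subgroup.index_dvd_card _))
        rw [hR] at hsq
        generalize Cfsg.charDegree (χ : R → ℂ) = d at *
        have : d ≤ 2 := by nlinarith
        interval_cases d
        · simp at h6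
        · exact absurd rfl hχ
        · rfl
      have hmul := Degrees.mul_mem_of_direct D R hinf (by rw [hDc, hR, hG]) hd1 ⟨χ, rfl⟩
      rw [hd2] at hmul
      refine hno (adj_of_dvd Nat.prime_two Nat.prime_three (by norm_num) hmul ?_)
      rw [mul_comm 2 3]
      exact mul_dvd_mul_right h3 2

theorem kill_360 (hG : Nat.card G = 360) (h25 : (Cfsg.degreeGraph G).Adj 2 5)
    (hno : ¬ (Cfsg.degreeGraph G).Adj 2 3)
    (N : Subgroup (G ⧸ solRad G)) [N.Normal] [IsSimpleGroup N] (hN : Nat.card N = 60)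
    (hcent : Subgroup.centralizer (N : Set (G ⧸ solRad G)) = ⊥) : False := by
  haveI : Fact (Nat.Prime 5) := ⟨by norm_num⟩
  have hRQ := (solRad G).card_mul_index
  rw [hG] at hRQ
  have hQ : Nat.card (G ⧸ solRad G) ∣ 360 := ⟨_, (by rw [mul_comm]; exact hRQ.symm)⟩
  obtain ⟨P, hn6, hP, hC, h120⟩ := card_over_60 N hN hcent hQ
  obtain ⟨k, hk⟩ := hN ▸ Subgroup.card_subgroup_dvd_card N
  rw [hk] at h120
  have hk2 : k ∣ 2 := Nat.dvd_of_mul_dvd_mul_left (by norm_num : 0 < 60) h120
  rcases (Nat.dvd_prime Nat.prime_two).mp hk2 with rfl | rfl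
  · have htop : N = ⊤ := Subgroup.eq_top_of_card_eq N (by rw [hk, hN, mul_one])
    subst htop
    haveI : IsSimpleGroup (G ⧸ solRad G) := by
      haveI : Nontrivial (G ⧸ solRad G) :=
        Finite.one_lt_card_iff_nontrivial.mp (by rw [hk]; norm_num)
      exact IsSimpleGroup.isSimpleGroup_of_surjective
        (Subgroup.topEquiv (G := G ⧸ solRad G)).toMonoidHom
        (Subgroup.topEquiv (G := G ⧸ solRad G)).surjective
    have hR : Nat.card (solRad G) = 6 := by
      have e : (solRad G).index = 60 := hk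
      rw [e] at hRQ
      omega
    exact kill_six hG h25 hno (solRad G) hR
  · obtain ⟨d, hd, h6⟩ := Degrees.exists_six_dvd hk N hN P hn6 hP hC
    exact hno (adj_of_dvd Nat.prime_two Nat.prime_three (by norm_num)
      (Degrees.mem_of_surjective _ (QuotientGroup.mk'_surjective _) hd) h6)

end

/-! ## Uniqueness -/

theorem iso_of_simple {S : Type u} [Group S] [Finite S] [IsSimpleGroup S] {G : Type v} [Group G]
    [Finite G] [IsSimpleGroup G] {n : ℕ} (hn : n ∈ orders) (hS : Nat.card S = n)
    (hG : Nat.card G = n) : Nonempty (G ≃* S) := by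
  simp only [orders, List.mem_cons, List.not_mem_nil, or_false] at hn
  rcases hn with rfl | rfl | rfl | rfl | rfl | rfl | rfl | rfl | rfl | rfl | rfl
  · obtain ⟨a⟩ := S0494.result hG
    obtain ⟨b⟩ := S0494.result hS
    exact ⟨a.trans b.symm⟩
  · haveI : Fact (Nat.Prime 7) := ⟨by norm_num⟩
    obtain ⟨a⟩ := S0495.result hG (ZMod.card 7)
    obtain ⟨b⟩ := S0495.result hS (ZMod.card 7)
    exact ⟨a.trans b.symm⟩
  · obtain ⟨a⟩ := S0497.result hG
    obtain ⟨b⟩ := S0497.result hS
    exact ⟨a.trans b.symm⟩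
  · haveI : Fact (Nat.Prime 2) := ⟨Nat.prime_two⟩
    letI := Fintype.ofFinite (GaloisField 2 3)
    have hF : Fintype.card (GaloisField 2 3) = 8 := by
      rw [← Nat.card_eq_fintype_card, GaloisField.card 2 3 (by norm_num)]; norm_num
    obtain ⟨a⟩ := S1011.result hG hF
    obtain ⟨b⟩ := S1011.result hS hF
    exact ⟨a.trans b.symm⟩
  · haveI : Fact (Nat.Prime 11) := ⟨by norm_num⟩
    obtain ⟨a⟩ := S0498.result 11 (Or.inl rfl) (by rw [hG]; norm_num) (G := G) (ZMod.card 11)
    obtain ⟨b⟩ := S0498.result 11 (Or.inl rfl) (by rw [hS]; norm_num) (G := S) (ZMod.card 11)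
    exact ⟨a.trans b.symm⟩
  · haveI : Fact (Nat.Prime 13) := ⟨by norm_num⟩
    obtain ⟨a⟩ := S0498.result 13 (Or.inr rfl) (by rw [hG]; norm_num) (G := G) (ZMod.card 13)
    obtain ⟨b⟩ := S0498.result 13 (Or.inr rfl) (by rw [hS]; norm_num) (G := S) (ZMod.card 13)
    exact ⟨a.trans b.symm⟩
  · haveI : Fact (Nat.Prime 17) := ⟨by norm_num⟩
    obtain ⟨a⟩ := S1020.result hG (ZMod.card 17)
    obtain ⟨b⟩ := S1020.result hS (ZMod.card 17)
    exact ⟨a.trans b.symm⟩
  · obtain ⟨a⟩ := S0984.result hG
    obtain ⟨b⟩ := S0984.result hS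
    exact ⟨a.trans b.symm⟩
  · haveI : Fact (Nat.Prime 19) := ⟨by norm_num⟩
    obtain ⟨a⟩ := S1021.result hG (ZMod.card 19)
    obtain ⟨b⟩ := S1021.result hS (ZMod.card 19)
    exact ⟨a.trans b.symm⟩
  · haveI : Fact (Nat.Prime 2) := ⟨Nat.prime_two⟩
    letI := Fintype.ofFinite (GaloisField 2 4)
    have hF : Fintype.card (GaloisField 2 4) = 16 := by
      rw [← Nat.card_eq_fintype_card, GaloisField.card 2 4 (by norm_num)]; norm_num
    obtain ⟨a⟩ := S0981.result hG hF
    obtain ⟨b⟩ := S0981.result hS hF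
    exact ⟨a.trans b.symm⟩
  · exact RecogThree.L33.Order.Main.nonempty_mulEquiv hG hS

/-- The pairs of an order and the order of a proper simple factor. -/
theorem pairs {n m : ℕ} (hn : n ∈ orders) (hm : m ∈ orders) (h : m ∣ n) (hne : m ≠ n) :
    (n, m) ∈ [(360, 60), (504, 168), (660, 60), (2520, 60), (2520, 168), (2520, 360), (2520, 504),
      (3420, 60), (4080, 60)] := by
  exact (by decide +kernel : ∀ a ∈ orders, ∀ b ∈ orders, b ∣ a → b ≠ a →
    (a, b) ∈ [(360, 60), (504, 168), (660, 60), (2520, 60), (2520, 168), (2520, 360), (2520, 504),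
      (3420, 60), (4080, 60)]) n hn m hm h hne

theorem main {S : Type u} [Group S] [Finite S] [IsSimpleGroup S] (hS : ¬ IsMulCommutative S)
    (hlt : Nat.card S < 6000) {G : Type v} [Group G] [Finite G] (hcard : Nat.card G = Nat.card S)
    (hP : Cfsg.degreePrimes G = Cfsg.degreePrimes S)
    (hΓ : Cfsg.degreeGraph G = Cfsg.degreeGraph S) : Nonempty (G ≃* S) := by
  have hn := Known.card_mem hS hlt
  obtain ⟨n, hSn⟩ : ∃ n, Nat.card S = n := ⟨_, rfl⟩
  rw [hSn] at hn hcard
  have hns := not_solvable_of hSn hn hcard hP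
  haveI : Nontrivial (G ⧸ solRad G) := by
    rw [← Finite.one_lt_card_iff_nontrivial]
    by_contra hle
    have h1 : (solRad G).index = 1 := by
      have := Subgroup.index_ne_zero_of_finite (H := solRad G)
      have hle' : ¬ 1 < (solRad G).index := hle
      omega
    apply hns
    have hs := solRad_isSolvable (G := G)
    rw [Subgroup.index_eq_one.mp h1] at hs
    haveI := hs
    exact Group.isSolvable_of_surjective (f := (Subgroup.topEquiv (G := G)).toMonoidHom)
      (Subgroup.topEquiv (G := G)).surjective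
  have hRQ := (solRad G).card_mul_index
  rw [hcard] at hRQ
  have hQn : Nat.card (G ⧸ solRad G) ∣ n := ⟨_, (by rw [mul_comm]; exact hRQ.symm)⟩
  obtain ⟨N, hNn, hNs, hNo, hcent⟩ := exists_socle hn hQn solRad_quotient
  haveI := hNn
  haveI := hNs
  have hNd : Nat.card N ∣ n := (Subgroup.card_subgroup_dvd_card N).trans hQn
  by_cases hmn : Nat.card N = n
  · have hQ : Nat.card (G ⧸ solRad G) = n :=
      Nat.dvd_antisymm hQn (hmn ▸ Subgroup.card_subgroup_dvd_card N)
    have hR : solRad G = ⊥ := Subgroup.eq_bot_of_card_eq _ (by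
      have h1 : (solRad G).index = n := hQ
      rw [h1] at hRQ
      have : 0 < n := hcard ▸ Nat.card_pos
      exact Nat.eq_of_mul_eq_mul_right this (hRQ.trans (one_mul n).symm))
    let e : N ≃* G := (MulEquiv.ofBijective N.subtype
      ((Nat.bijective_iff_injective_and_card _).mpr ⟨N.subtype_injective, hmn.trans hQ.symm⟩)).trans
      ((QuotientGroup.quotientMulEquivOfEq hR).trans QuotientGroup.quotientBot)
    haveI : Nontrivial G := e.symm.toEquiv.nontrivial
    haveI : IsSimpleGroup G :=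
      IsSimpleGroup.isSimpleGroup_of_surjective e.toMonoidHom e.surjective
    exact iso_of_simple hn hSn hcard
  exfalso
  have hpair := pairs hn hNo hNd hmn
  obtain ⟨m, hm⟩ : ∃ m, Nat.card N = m := ⟨_, rfl⟩
  rw [hm] at hpair
  haveI : Fact (Nat.Prime 3) := ⟨Nat.prime_three⟩
  haveI : Fact (Nat.Prime 5) := ⟨by norm_num⟩
  haveI : Fact (Nat.Prime 7) := ⟨by norm_num⟩
  haveI : Fact (Nat.Prime 11) := ⟨by norm_num⟩
  haveI : Fact (Nat.Prime 17) := ⟨by norm_num⟩
  haveI : Fact (Nat.Prime 19) := ⟨by norm_num⟩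
  have hdeg : ∀ p, (n, p) ∈ [(60, 5), (168, 7), (168, 2), (360, 5), (504, 7), (504, 2), (660, 11),
      (1092, 13), (2448, 17), (2520, 7), (2520, 5), (3420, 19), (4080, 17), (5616, 13),
      (5616, 3)] → p ∈ Cfsg.degreePrimes G := fun p hp => hP ▸ Known.mem_degreePrimes hSn hp
  simp only [List.mem_cons, Prod.mk.injEq, List.not_mem_nil, or_false] at hpair
  rcases hpair with ⟨rfl, rfl⟩ | ⟨rfl, rfl⟩ | ⟨rfl, rfl⟩ | ⟨rfl, rfl⟩ | ⟨rfl, rfl⟩ | ⟨rfl, rfl⟩ |
    ⟨rfl, rfl⟩ | ⟨rfl, rfl⟩ | ⟨rfl, rfl⟩
  · exact kill_360 hcard (hΓ ▸ (Known.adj_360 hSn).1) (hΓ ▸ (Known.adj_360 hSn).2) N hm hcent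
  · exact kill_504 (hΓ ▸ Known.adj_504 hSn) N hm
  · exact kill (p := 11) (r := 5) (a := 1) (mm := 12) hcard (by norm_num) (by norm_num)
      (hdeg 11 (by simp)) N hcent hm (by norm_num) (by norm_num) (by norm_num) (by norm_num)
      (by norm_num) (by decide +kernel) (by decide +kernel) (by decide +kernel)
  · exact kill (p := 7) (r := 5) (a := 1) (mm := 12) hcard (by norm_num) (by norm_num)
      (hdeg 7 (by simp)) N hcent hm (by norm_num) (by norm_num) (by norm_num) (by norm_num)
      (by norm_num) (by decide +kernel) (by decide +kernel) (by decide +kernel)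
  · exact kill (p := 5) (r := 7) (a := 1) (mm := 24) hcard (by norm_num) (by norm_num)
      (hdeg 5 (by simp)) N hcent hm (by norm_num) (by norm_num) (by norm_num) (by norm_num)
      (by norm_num) (by decide +kernel) (by decide +kernel) (by decide +kernel)
  · exact kill (p := 7) (r := 3) (a := 2) (mm := 40) hcard (by norm_num) (by norm_num)
      (hdeg 7 (by simp)) N hcent hm (by norm_num) (by norm_num) (by norm_num) (by norm_num)
      (by norm_num) (by decide +kernel) (by decide +kernel) (by decide +kernel)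
  · exact kill (p := 5) (r := 3) (a := 2) (mm := 56) hcard (by norm_num) (by norm_num)
      (hdeg 5 (by simp)) N hcent hm (by norm_num) (by norm_num) (by norm_num) (by norm_num)
      (by norm_num) (by decide +kernel) (by decide +kernel) (by decide +kernel)
  · exact kill (p := 19) (r := 5) (a := 1) (mm := 12) hcard (by norm_num) (by norm_num)
      (hdeg 19 (by simp)) N hcent hm (by norm_num) (by norm_num) (by norm_num) (by norm_num)
      (by norm_num) (by decide +kernel) (by decide +kernel) (by decide +kernel)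
  · exact kill (p := 17) (r := 5) (a := 1) (mm := 12) hcard (by norm_num) (by norm_num)
      (hdeg 17 (by simp)) N hcent hm (by norm_num) (by norm_num) (by norm_num) (by norm_num)
      (by norm_num) (by decide +kernel) (by decide +kernel) (by decide +kernel)

end Cfsg.Agent.Lib.SmallSimple.Main
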